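import Groth.Agent.RedSub.K208.EtGlue
import Groth.Agent.RedSub.H654.PtBc
import Groth.Agent.Sga3B.Pts

/-!
# Étale gluing of group schemes

* `grpOfPts`: a group object from natural group structures on its points.
* `EtGlue.Dat.exists_glue_grp`: étale gluing of groups, affine over the base, given by transition isomorphisms on
  points; the result represents the compatible families of local morphisms.
-/

set_option autoImplicit false
universe u

open CategoryTheory CategoryTheory.Limits MonoidalCategory CartesianMonoidalCategory MonObj GrpObj AlgebraicGeometry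
  Opposite

namespace K208.EtGlue

open Groth.Agent.RedSub.H654.PtBc
open Groth.Agent.Sga3B.RepDescent (IsEtSheaf exists_glue repBC of_etale_cover)

section grp

universe v w

variable {C : Type w} [Category.{v} C] [CartesianMonoidalCategory C]

/-- A functor of groups from natural group structures on points. -/
@[reducible]
def grpFun (A : C) (g : ∀ T : C, Group (T ⟶ A))
    (nat : ∀ (T T' : C) (f : T' ⟶ T) (x y : T ⟶ A), f ≫ (g T).mul x y = (g T').mul (f ≫ x) (f ≫ y)) : Cᵒᵖ ⥤ GrpCat.{v} where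
  obj T := @GrpCat.of (T.unop ⟶ A) (g T.unop)
  map {T T'} f := @GrpCat.ofHom _ _ (g T.unop) (g T'.unop)
    (letI := g T.unop
     letI := g T'.unop
     MonoidHom.mk' (fun x : T.unop ⟶ A => f.unop ≫ x) (fun x y => nat _ _ f.unop x y))
  map_id T := by
    refine ConcreteCategory.hom_ext _ _ fun x => ?_
    exact Category.id_comp _
  map_comp f g := by
    refine ConcreteCategory.hom_ext _ _ fun x => ?_
    exact Category.assoc _ _ _

/-- the representability -/
def grpRep (A : C) (g : ∀ T : C, Group (T ⟶ A))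
    (nat : ∀ (T T' : C) (f : T' ⟶ T) (x y : T ⟶ A), f ≫ (g T).mul x y = (g T').mul (f ≫ x) (f ≫ y)) :
    (grpFun A g nat ⋙ forget GrpCat).RepresentableBy A where
  homEquiv := Equiv.refl _
  homEquiv_comp _ _ := rfl

/-- A group object from natural group structures on its points. -/
@[reducible]
def grpOfPts (A : C) (g : ∀ T : C, Group (T ⟶ A))
    (nat : ∀ (T T' : C) (f : T' ⟶ T) (x y : T ⟶ A), f ≫ (g T).mul x y = (g T').mul (f ≫ x) (f ≫ y)) : GrpObj A :=
  GrpObj.ofRepresentableBy A (grpFun A g nat) (grpRep A g nat)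

theorem grpOfPts_mul (A : C) (g : ∀ T : C, Group (T ⟶ A))
    (nat : ∀ (T T' : C) (f : T' ⟶ T) (x y : T ⟶ A), f ≫ (g T).mul x y = (g T').mul (f ≫ x) (f ≫ y)) (T : C)
    (x y : T ⟶ A) : letI := grpOfPts A g nat; x * y = (g T).mul x y := by
  letI := grpOfPts A g nat
  change lift x y ≫ (g (A ⊗ A)).mul (fst A A) (snd A A) = _
  rw [nat, lift_fst, lift_snd]

/-- Uniqueness of representing objects. -/
def repIso {F : Cᵒᵖ ⥤ Type v} {Y Y' : C} (e : F.RepresentableBy Y) (e' : F.RepresentableBy Y') : Y ≅ Y' where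
  hom := e'.homEquiv.symm (e.homEquiv (𝟙 Y))
  inv := e.homEquiv.symm (e'.homEquiv (𝟙 Y'))
  hom_inv_id := by
    rw [Functor.RepresentableBy.comp_homEquiv_symm, ← Functor.RepresentableBy.homEquiv_comp, Category.comp_id,
      Equiv.apply_symm_apply, Equiv.symm_apply_apply]
  inv_hom_id := by
    rw [Functor.RepresentableBy.comp_homEquiv_symm, ← Functor.RepresentableBy.homEquiv_comp, Category.comp_id,
      Equiv.apply_symm_apply, Equiv.symm_apply_apply]

theorem comp_repIso_hom {F : Cᵒᵖ ⥤ Type v} {Y Y' X : C} (e : F.RepresentableBy Y) (e' : F.RepresentableBy Y') (y : X ⟶ Y) :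
    y ≫ (repIso e e').hom = e'.homEquiv.symm (e.homEquiv y) := by
  rw [repIso, Functor.RepresentableBy.comp_homEquiv_symm, ← Functor.RepresentableBy.homEquiv_comp, Category.comp_id]

end grp

namespace Dat

variable {S : Scheme.{u}} (D : Dat S)

/-- The transition maps are homomorphisms. -/
def IsMul [∀ j, GrpObj (D.E j)] : Prop :=
  ∀ {i j : D.J} {R : Scheme.{u}} (b : R ⟶ D.V i) (c : R ⟶ D.V j) (h : b ≫ D.v i = c ≫ D.v j)
    (x y : Over.mk b ⟶ D.E i), D.φ b c h (x * y) = D.φ b c h x * D.φ b c h y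

/-- sections of `F` -/
abbrev Fam (T : Over S) : Type u :=
  {x : ∀ j, Over.mk (pullback.snd T.hom (D.v j)) ⟶ D.E j // D.Compat T x}

section group

variable {D}
variable [∀ j, GrpObj (D.E j)] (hm : D.IsMul)

include hm in
theorem φ_one {i j : D.J} {R : Scheme.{u}} (b : R ⟶ D.V i) (c : R ⟶ D.V j) (h : b ≫ D.v i = c ≫ D.v j) :
    D.φ b c h 1 = 1 := by
  have h1 := hm b c h 1 1
  rw [_root_.mul_one] at h1
  exact (mul_eq_left (a := D.φ b c h 1)).1 h1.symm

include hm in
theorem φ_inv {i j : D.J} {R : Scheme.{u}} (b : R ⟶ D.V i) (c : R ⟶ D.V j) (h : b ≫ D.v i = c ≫ D.v j)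
    (x : Over.mk b ⟶ D.E i) : D.φ b c h x⁻¹ = (D.φ b c h x)⁻¹ := by
  rw [eq_inv_iff_mul_eq_one, ← hm, inv_mul_cancel, φ_one hm]

theorem ev_mul {T : Over S} {j : D.J} (x y : Over.mk (pullback.snd T.hom (D.v j)) ⟶ D.E j) {R : Scheme.{u}}
    (a : R ⟶ T.left) (b : R ⟶ D.V j) (h : a ≫ T.hom = b ≫ D.v j) :
    D.ev (x * y) a b h = D.ev x a b h * D.ev y a b h := comp_mul _ _ _

theorem ev_one {T : Over S} {j : D.J} {R : Scheme.{u}}
    (a : R ⟶ T.left) (b : R ⟶ D.V j) (h : a ≫ T.hom = b ≫ D.v j) :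
    D.ev (j := j) (1 : Over.mk (pullback.snd T.hom (D.v j)) ⟶ D.E j) a b h = 1 := comp_one _

theorem ev_inv {T : Over S} {j : D.J} (x : Over.mk (pullback.snd T.hom (D.v j)) ⟶ D.E j) {R : Scheme.{u}}
    (a : R ⟶ T.left) (b : R ⟶ D.V j) (h : a ≫ T.hom = b ≫ D.v j) :
    D.ev x⁻¹ a b h = (D.ev x a b h)⁻¹ := comp_inv _ _

/-- The subgroup of compatible families. -/
noncomputable def sub (T : Over S) : Subgroup (∀ j, Over.mk (pullback.snd T.hom (D.v j)) ⟶ D.E j) where
  carrier := {x | D.Compat T x}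
  mul_mem' {x y} hx hy := fun i j R a b c hb hc => by
    rw [Pi.mul_apply, Pi.mul_apply, ev_mul, ev_mul, hm, hx i j R a b c hb hc, hy i j R a b c hb hc]
  one_mem' := fun i j R a b c hb hc => by
    rw [Pi.one_apply, Pi.one_apply, ev_one, ev_one, φ_one hm]
  inv_mem' {x} hx := fun i j R a b c hb hc => by
    rw [Pi.inv_apply, Pi.inv_apply, ev_inv, ev_inv, φ_inv hm, hx i j R a b c hb hc]

/-- The group of sections. -/
@[reducible]
noncomputable def grpFam (T : Over S) : Group (D.Fam T) := inferInstanceAs (Group (sub hm T))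

theorem grpFam_mul {T : Over S} (x y : D.Fam T) (j : D.J) :
    ((grpFam hm T).mul x y).1 j = x.1 j * y.1 j := rfl

end group

section rep

variable {D}
variable {A : Over S} (r : D.F.RepresentableBy A)

/-- The family of a point. -/
noncomputable def fam {T : Over S} (x : T ⟶ A) : D.Fam T := r.homEquiv x

theorem fam_comp {T T' : Over S} (f : T' ⟶ T) (x : T ⟶ A) :
    fam r (f ≫ x) = ⟨D.mapFam f (fam r x).1, D.compat_mapFam f (fam r x).2⟩ := r.homEquiv_comp f x

theorem fam_injective (T : Over S) : Function.Injective (fam r : (T ⟶ A) → D.Fam T) := r.homEquiv.injective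

theorem fam_surjective (T : Over S) : Function.Surjective (fam r : (T ⟶ A) → D.Fam T) := r.homEquiv.surjective

/-- The value of a point of `A` in `E j`. -/
noncomputable def val {j : D.J} {R : Scheme.{u}} {a : R ⟶ S} (b : R ⟶ D.V j) (h : a = b ≫ D.v j) (x : Over.mk a ⟶ A) :
    Over.mk b ⟶ D.E j :=
  D.ev ((fam r x).1 j) (𝟙 R) b ((Category.id_comp _).trans h)

theorem ev_fam {T : Over S} (x : T ⟶ A) {j : D.J} {R : Scheme.{u}} (a : R ⟶ T.left) (b : R ⟶ D.V j)
    (h : a ≫ T.hom = b ≫ D.v j) :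
    D.ev ((fam r x).1 j) a b h = val r b h ((Over.homMk a rfl : Over.mk (a ≫ T.hom) ⟶ T) ≫ x) := by
  rw [val, fam_comp, ev_mapFam]
  congr 1

theorem val_φ {i j : D.J} {R : Scheme.{u}} {a : R ⟶ S} (b : R ⟶ D.V i) (c : R ⟶ D.V j) (hb : a = b ≫ D.v i)
    (hc : a = c ≫ D.v j) (x : Over.mk a ⟶ A) : D.φ b c (hb.symm.trans hc) (val r b hb x) = val r c hc x :=
  (fam r x).2 i j R (𝟙 R) b c _ _

theorem val_res {j : D.J} {R R' : Scheme.{u}} (s : R' ⟶ R) {a : R ⟶ S} {a' : R' ⟶ S} (ha : s ≫ a = a')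
    {b : R ⟶ D.V j} {b' : R' ⟶ D.V j} (hb : s ≫ b = b') (h : a = b ≫ D.v j) (h' : a' = b' ≫ D.v j)
    (x : Over.mk a ⟶ A) : val r b' h' (res s ha x) = res s hb (val r b h x) := by
  subst ha hb
  rw [val, res, fam_comp, ev_mapFam, val, ev_res]
  congr 1

theorem val_congr {j : D.J} {R : Scheme.{u}} {a a' : R ⟶ S} (b : R ⟶ D.V j) (h : a = b ≫ D.v j) (h' : a' = b ≫ D.v j)
    (x : Over.mk a ⟶ A) (x' : Over.mk a' ⟶ A) (hx : x.left = x'.left) : val r b h x = val r b h' x' := by
  subst h h'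
  congr 1
  ext
  exact hx

/-- The local comparison isomorphism. -/
noncomputable def loc (j : D.J) : Red.bc (D.v j) A ≅ D.E j := repIso (repBC (D.v j) r) (D.repLoc j)

theorem comp_loc (j : D.J) {R : Scheme.{u}} {b : R ⟶ D.V j} {a : R ⟶ S} (h : b ≫ D.v j = a)
    (y : Over.mk b ⟶ Red.bc (D.v j) A) : y ≫ (loc r j).hom = val r b h.symm (dn h y) := by
  subst h
  have h1 : y ≫ (loc r j).hom = (D.repLoc j).homEquiv.symm ((repBC (D.v j) r).homEquiv y) := by
    rw [loc, comp_repIso_hom]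
  have h2 : ((Over.mapPullbackAdj (D.v j)).homEquiv (Over.mk b) A).symm y = dn rfl y := by
    ext
    simp [dn, Over.mapPullbackAdj]
  have h3 : (repBC (D.v j) r).homEquiv y = r.homEquiv (((Over.mapPullbackAdj (D.v j)).homEquiv (Over.mk b) A).symm y) := rfl
  rw [h1, h3, h2]
  rfl

theorem up_loc (j : D.J) {R : Scheme.{u}} {b : R ⟶ D.V j} {a : R ⟶ S} (h : b ≫ D.v j = a)
    (x : Over.mk a ⟶ A) : up h x ≫ (loc r j).hom = val r b h.symm x := by
  rw [comp_loc r j h, dn_up]

/-- the transition maps are the identity of `A` -/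
theorem φ_loc {i j : D.J} {R : Scheme.{u}} (b : R ⟶ D.V i) (c : R ⟶ D.V j) (h : b ≫ D.v i = c ≫ D.v j)
    (x : Over.mk b ⟶ Red.bc (D.v i) A) (y : Over.mk c ⟶ Red.bc (D.v j) A)
    (hxy : x.left ≫ pullback.fst A.hom (D.v i) = y.left ≫ pullback.fst A.hom (D.v j)) :
    D.φ b c h (x ≫ (loc r i).hom) = y ≫ (loc r j).hom := by
  rw [comp_loc r i h, comp_loc r j rfl, ← val_φ r b c h.symm rfl]
  congr 2
  ext
  exact hxy

theorem fam_eq {T : Over S} (f : T ⟶ A) (j : D.J) :
    (fam r f).1 j = (Over.pullback (D.v j)).map f ≫ (loc r j).hom := by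
  apply hom_ext_up (v := D.v j)
  intro R a b h x
  rw [← Category.assoc, up_comp, up_loc]
  subst h
  have h1 := ev_fam r f x.left b (Over.w x)
  change (up rfl x) ≫ _ = _
  refine Eq.trans ?_ (h1.trans ?_)
  · rw [ev]
    ext
    rfl
  · apply val_congr
    rfl

/-- compatible families of morphisms -/
def CompatHom {T : Over S} (z : ∀ j, Red.bc (D.v j) T ⟶ D.E j) : Prop :=
  ∀ (i j : D.J) (R : Scheme.{u}) (b : R ⟶ D.V i) (c : R ⟶ D.V j) (h : b ≫ D.v i = c ≫ D.v j)
    (x : Over.mk b ⟶ Red.bc (D.v i) T) (y : Over.mk c ⟶ Red.bc (D.v j) T),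
    x.left ≫ pullback.fst T.hom (D.v i) = y.left ≫ pullback.fst T.hom (D.v j) → D.φ b c h (x ≫ z i) = y ≫ z j

/-- Compatible families of morphisms glue. -/
theorem exists_hom {T : Over S} (z : ∀ j, Red.bc (D.v j) T ⟶ D.E j) (hz : D.CompatHom z) :
    ∃ f : T ⟶ A, ∀ j, (Over.pullback (D.v j)).map f ≫ (loc r j).hom = z j := by
  obtain ⟨f, hf⟩ := fam_surjective r T ⟨z, by
    intro i j R a b c hb hc
    refine hz i j R b c _ (Over.homMk (pullback.lift a b hb) (pullback.lift_snd _ _ _))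
      (Over.homMk (pullback.lift a c hc) (pullback.lift_snd _ _ _)) ?_
    change pullback.lift a b hb ≫ _ = pullback.lift a c hc ≫ _
    rw [pullback.lift_fst, pullback.lift_fst]⟩
  refine ⟨f, fun j => ?_⟩
  rw [← fam_eq, hf]

theorem hom_ext {T : Over S} {f g : T ⟶ A}
    (h : ∀ j, (Over.pullback (D.v j)).map f ≫ (loc r j).hom = (Over.pullback (D.v j)).map g ≫ (loc r j).hom) : f = g := by
  apply fam_injective r
  apply Subtype.ext
  funext j
  rw [fam_eq, fam_eq, h j]

theorem compatHom_of {T : Over S} (f : T ⟶ A) :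
    D.CompatHom fun j => (Over.pullback (D.v j)).map f ≫ (loc r j).hom := by
  intro i j R b c h x y hxy
  rw [← Category.assoc, ← Category.assoc]
  apply φ_loc
  rw [Over.comp_left, Over.comp_left, Category.assoc, Category.assoc, map_left_fst, map_left_fst, ← Category.assoc, hxy,
    Category.assoc]

section main

variable [∀ j, GrpObj (D.E j)] (hm : D.IsMul)

theorem fam_mapFam_mul {T T' : Over S} (f : T' ⟶ T) (x y : D.Fam T) (j : D.J) :
    D.mapFam f ((grpFam hm T).mul x y).1 j = D.mapFam f x.1 j * D.mapFam f y.1 j := ev_mul _ _ _ _ _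

/-- the group structure of `A` -/
@[reducible]
noncomputable def grpA : GrpObj A :=
  grpOfPts A (fun T => @Equiv.group _ _ (Equiv.ofBijective (fam r) ⟨fam_injective r T, fam_surjective r T⟩) (grpFam hm T))
    (by
      intro T T' f x y
      let e : ∀ T : Over S, (T ⟶ A) ≃ D.Fam T := fun T => Equiv.ofBijective (fam r) ⟨fam_injective r T, fam_surjective r T⟩
      change f ≫ (e T).symm ((grpFam hm T).mul (fam r x) (fam r y)) =
        (e T').symm ((grpFam hm T').mul (fam r (f ≫ x)) (fam r (f ≫ y)))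
      apply (e T').injective
      rw [Equiv.apply_symm_apply]
      change fam r (f ≫ _) = _
      rw [fam_comp, fam_comp, fam_comp]
      apply Subtype.ext
      funext j
      have h1 : fam r ((e T).symm ((grpFam hm T).mul (fam r x) (fam r y))) = (grpFam hm T).mul (fam r x) (fam r y) :=
        (e T).apply_symm_apply _
      rw [h1]
      exact fam_mapFam_mul hm f _ _ j)

theorem fam_mul {T : Over S} (x y : T ⟶ A) : letI := grpA r hm; fam r (x * y) = (grpFam hm T).mul (fam r x) (fam r y) := by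
  let e : ∀ T : Over S, (T ⟶ A) ≃ D.Fam T := fun T => Equiv.ofBijective (fam r) ⟨fam_injective r T, fam_surjective r T⟩
  have h1 := grpOfPts_mul A (fun T => @Equiv.group _ _ (e T) (grpFam hm T)) (by
    intro T T' f x y
    apply (e T').injective
    change fam r (f ≫ (e T).symm ((grpFam hm T).mul (fam r x) (fam r y))) =
        (e T') ((e T').symm ((grpFam hm T').mul (fam r (f ≫ x)) (fam r (f ≫ y))))
    rw [Equiv.apply_symm_apply, fam_comp, fam_comp, fam_comp]
    apply Subtype.ext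
    funext j
    have h1 : fam r ((e T).symm ((grpFam hm T).mul (fam r x) (fam r y))) = (grpFam hm T).mul (fam r x) (fam r y) :=
      (e T).apply_symm_apply _
    rw [h1]
    exact fam_mapFam_mul hm f _ _ j) T x y
  refine (congrArg (fam r) h1).trans ?_
  exact (e T).apply_symm_apply _

theorem val_mul {j : D.J} {R : Scheme.{u}} {a : R ⟶ S} (b : R ⟶ D.V j) (h : a = b ≫ D.v j) (x y : Over.mk a ⟶ A) :
    letI := grpA r hm; val r b h (x * y) = val r b h x * val r b h y := by
  rw [val, fam_mul]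
  exact ev_mul _ _ _ _ _

theorem isMonHom_loc (j : D.J) : letI := grpA r hm; IsMonHom (loc r j).hom := by
  let _ := grpA r hm
  have key : ∀ {R : Scheme.{u}} {b : R ⟶ D.V j} (x y : Over.mk b ⟶ Red.bc (D.v j) A),
      (x * y) ≫ (loc r j).hom = x ≫ (loc r j).hom * y ≫ (loc r j).hom := by
    intro R b x y
    rw [comp_loc r j rfl, comp_loc r j rfl, comp_loc r j rfl, dn_mul, val_mul r hm]
  apply Groth.Agent.Sga3B.Pts.isMonHom_of_points
  intro X x y
  exact key (b := X.hom) x y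

/-- A morphism to `A` is a homomorphism if it is so locally. -/
theorem isMonHom_of_loc {T : Over S} [GrpObj T] (f : T ⟶ A)
    (hf : ∀ j, IsMonHom ((Over.pullback (D.v j)).map f ≫ (loc r j).hom)) : letI := grpA r hm; IsMonHom f := by
  let _ := grpA r hm
  apply Groth.Agent.Sga3B.Pts.isMonHom_of_points
  intro X x y
  apply D.hom_ext r
  intro j
  have := isMonHom_loc r hm j
  have := hf j
  rw [Functor.map_comp, Category.assoc, Functor.map_mul, mul_comp, Functor.map_mul, mul_comp, Functor.map_comp,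
    Functor.map_comp, Category.assoc, Category.assoc]

end main

end rep

/-- affineness of the glued scheme -/
theorem isAffineHom_of_loc {A : Over S} (e : ∀ j, Red.bc (D.v j) A ≅ D.E j) (he : ∀ j, Etale (D.v j))
    (hcov : ∀ s : S, ∃ j, s ∈ Set.range (D.v j)) (hE : ∀ j, IsAffineHom (D.E j).hom) : IsAffineHom A.hom := by
  refine of_etale_cover (P := @IsAffineHom) A.hom fun s => ?_
  obtain ⟨j, hj⟩ := hcov s
  refine ⟨D.V j, D.v j, he j, hj, ?_⟩
  have h1 : (e j).hom.left ≫ (D.E j).hom = pullback.snd A.hom (D.v j) := Over.w (e j).hom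
  have := hE j
  rw [← h1]
  infer_instance

/-- **Étale gluing of affine schemes.** -/
theorem exists_glue_sch (he : ∀ j, Etale (D.v j))
    (hcov : ∀ s : S, ∃ j, s ∈ Set.range (D.v j)) (hV : ∀ j, IsAffine (D.V j)) (hE : ∀ j, IsAffineHom (D.E j).hom) :
    ∃ (A : Over S) (e : ∀ j, Red.bc (D.v j) A ≅ D.E j), IsAffineHom A.hom ∧
      (∀ (i j : D.J) (R : Scheme.{u}) (b : R ⟶ D.V i) (c : R ⟶ D.V j) (h : b ≫ D.v i = c ≫ D.v j)
        (x : Over.mk b ⟶ Red.bc (D.v i) A) (y : Over.mk c ⟶ Red.bc (D.v j) A),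
        x.left ≫ pullback.fst A.hom (D.v i) = y.left ≫ pullback.fst A.hom (D.v j) →
          D.φ b c h (x ≫ (e i).hom) = y ≫ (e j).hom) ∧
      (∀ (T : Over S) (z : ∀ j, Red.bc (D.v j) T ⟶ D.E j), D.CompatHom z →
        ∃! f : T ⟶ A, ∀ j, (Over.pullback (D.v j)).map f ≫ (e j).hom = z j) := by
  obtain ⟨A, ⟨r⟩⟩ := D.exists_rep he hcov hV hE
  refine ⟨A, loc r, D.isAffineHom_of_loc (loc r) he hcov hE, ?_, ?_⟩
  · intro i j R b c h x y hxy
    exact φ_loc r b c h x y hxy
  · intro T z hz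
    obtain ⟨f, hf⟩ := exists_hom r z hz
    exact ⟨f, hf, fun g hg => hom_ext r fun j => (hg j).trans (hf j).symm⟩

/-- **Étale gluing of group schemes.** -/
theorem exists_glue_grp [∀ j, GrpObj (D.E j)] (hm : D.IsMul) (he : ∀ j, Etale (D.v j))
    (hcov : ∀ s : S, ∃ j, s ∈ Set.range (D.v j)) (hV : ∀ j, IsAffine (D.V j)) (hE : ∀ j, IsAffineHom (D.E j).hom) :
    ∃ (A : Over S) (_ : GrpObj A) (e : ∀ j, Red.bc (D.v j) A ≅ D.E j), IsAffineHom A.hom ∧ (∀ j, IsMonHom (e j).hom) ∧
      (∀ (i j : D.J) (R : Scheme.{u}) (b : R ⟶ D.V i) (c : R ⟶ D.V j) (h : b ≫ D.v i = c ≫ D.v j)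
        (x : Over.mk b ⟶ Red.bc (D.v i) A) (y : Over.mk c ⟶ Red.bc (D.v j) A),
        x.left ≫ pullback.fst A.hom (D.v i) = y.left ≫ pullback.fst A.hom (D.v j) →
          D.φ b c h (x ≫ (e i).hom) = y ≫ (e j).hom) ∧
      (∀ (T : Over S) (z : ∀ j, Red.bc (D.v j) T ⟶ D.E j), D.CompatHom z →
        ∃! f : T ⟶ A, ∀ j, (Over.pullback (D.v j)).map f ≫ (e j).hom = z j) ∧
      (∀ (T : Over S) [GrpObj T] (f : T ⟶ A),
        (∀ j, IsMonHom ((Over.pullback (D.v j)).map f ≫ (e j).hom)) → IsMonHom f) := by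
  obtain ⟨A, ⟨r⟩⟩ := D.exists_rep he hcov hV hE
  refine ⟨A, grpA r hm, loc r, D.isAffineHom_of_loc (loc r) he hcov hE, isMonHom_loc r hm, ?_, ?_, ?_⟩
  · intro i j R b c h x y hxy
    exact φ_loc r b c h x y hxy
  · intro T z hz
    obtain ⟨f, hf⟩ := exists_hom r z hz
    exact ⟨f, hf, fun g hg => hom_ext r fun j => (hg j).trans (hf j).symm⟩
  · intro T _ f hf
    exact isMonHom_of_loc r hm f hf

end Dat

end K208.EtGlue
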