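import Groth.Agent.RedSub.K208.QSplit3
import Groth.Agent.Sga3B.GaPts

/-!
# The quotient of a split reductive group by a central diagonalizable subgroup: assembly
-/

set_option autoImplicit false
universe u

open CategoryTheory CategoryTheory.Limits MonoidalCategory CartesianMonoidalCategory MonObj GrpObj AlgebraicGeometry
  Opposite

namespace K208.QSplit

open K197 K197.Fppf Groth.Agent.Sga3B Groth.Agent.Sga3B.DSPts

variable {S : Scheme.{u}} {G : Over S} [GrpObj G] (D : Red.SplitRed G) (N : AddSubgroup D.M)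

/-- `D(M/N) ⟶ T` -/
noncomputable def zt : Red.DS S (D.M ⧸ N) ⟶ D.T := Red.DSmap S (QuotientAddGroup.mk' N) ≫ D.split.inv.hom.hom

/-- `T ⟶ D(N)` -/
noncomputable def pt : D.T ⟶ Red.DS S N := D.split.hom.hom.hom ≫ Red.DSmap S N.subtype

theorem split_hom_inv : D.split.hom.hom.hom ≫ D.split.inv.hom.hom = 𝟙 _ := congrArg (fun f => f.hom.hom) D.split.hom_inv_id

theorem split_inv_hom : D.split.inv.hom.hom ≫ D.split.hom.hom.hom = 𝟙 _ := congrArg (fun f => f.hom.hom) D.split.inv_hom_id

instance : IsMonHom (zt D N) := by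
  rw [zt]
  infer_instance

instance : IsMonHom (pt D N) := by
  rw [pt]
  infer_instance

instance isIso_split_inv : IsIso D.split.inv.hom.hom := ⟨D.split.hom.hom.hom, split_inv_hom D, split_hom_inv D⟩

instance isIso_split_hom : IsIso D.split.hom.hom.hom := ⟨D.split.inv.hom.hom, split_hom_inv D, split_inv_hom D⟩

theorem isClosedImmersion_zt : IsClosedImmersion (zt D N).left := by
  have h1 := K19.TorQuot.isClosedImmersion_DSmap S (QuotientAddGroup.mk' N) (QuotientAddGroup.mk'_surjective _)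
  have h2 : IsIso D.split.inv.hom.hom.left := ((Over.forget S).mapIso (asIso D.split.inv.hom.hom)).isIso_hom
  rw [zt, Over.comp_left]
  infer_instance

omit [GrpObj G] in
theorem isQuotient_of_iso {Z T T₀ T' : Over S} [GrpObj Z] [GrpObj T] [GrpObj T₀] (ζ : Z ⟶ T) (ζ₀ : Z ⟶ T₀) [Mono ζ]
    (e : T ⟶ T₀) [IsMonHom e] [IsIso e] (he : ζ ≫ e = ζ₀) (pr : T₀ ⟶ T') (h : RedSub.IsQuotient ζ₀ pr) :
    RedSub.IsQuotient ζ (e ≫ pr) := by
  refine QuotPts.isQuotient_of_pts ?_ ?_ ?_
  · have h2 : IsIso e.left := ((Over.forget S).mapIso (asIso e)).isIso_hom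
    exact IsCov.comp ⟨inferInstance, inferInstance, inferInstance⟩ (QuotPts.isCov h)
  · intro X g y
    rw [← Category.assoc, mul_comp, Category.assoc, he, QuotPts.mul_comp_eq h, Category.assoc]
  · intro X g g' hgg
    obtain ⟨y, hy⟩ := QuotPts.exists_of_eq h (g ≫ e) (g' ≫ e) (by
      rw [Category.assoc, Category.assoc]
      exact hgg)
    refine ⟨y, ?_⟩
    rw [← cancel_mono e, hy, mul_comp, Category.assoc, he]

instance mono_zt : Mono (zt D N) := by
  have := isClosedImmersion_zt D N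
  have : Mono (zt D N).left := inferInstance
  exact Over.mono_of_mono_left _

theorem isQuotient_pt : RedSub.IsQuotient (zt D N) (pt D N) := by
  refine isQuotient_of_iso (zt D N) (Red.DSmap S (QuotientAddGroup.mk' N)) D.split.hom.hom.hom ?_ _ (isQuotient_pr S N)
  rw [zt, Category.assoc, split_inv_hom, Category.comp_id]

variable {N}

/-- Centrality -/
theorem central (hN : ∀ a : D.idx, D.P.root a ∈ N) (X : Over S) (x : X ⟶ Red.DS S (D.M ⧸ N)) (g : X ⟶ G) :
    (x ≫ zt D N ≫ D.i) * g = g * (x ≫ zt D N ≫ D.i) := by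
  have := (Groth.Agent.S2962.result D X (x ≫ zt D N ≫ D.i)).2 ⟨x ≫ zt D N, Category.assoc _ _ _, fun a => by
    rw [zt, ← Category.assoc x, Category.assoc (x ≫ _), ← Category.assoc D.split.inv.hom.hom, split_inv_hom,
      Category.id_comp, AdCentre.dsChar_chi, dsChar_DSmap, MonoidHom.comp_apply]
    have h2 : AddMonoidHom.toMultiplicative (QuotientAddGroup.mk' N) (Multiplicative.ofAdd (D.P.root a)) = 1 :=
      (QuotientAddGroup.eq_zero_iff _).2 (hN a)
    rw [h2, map_one]⟩ X (𝟙 X) g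
  rwa [Category.id_comp] at this

theorem isNormalHom (hN : ∀ a : D.idx, D.P.root a ∈ N) : AlgGrp.IsNormalHom (zt D N ≫ D.i) := by
  intro X g n
  refine ⟨n, ?_⟩
  rw [← central D hN, mul_inv_cancel_right]

theorem isNormalHom_zt : AlgGrp.IsNormalHom (zt D N) := by
  intro X g n
  refine ⟨n, ?_⟩
  rw [MaxTorNear900.mul_comm_of_isTorus D.maximalTorus.2.2.1 _ g (n ≫ zt D N), mul_inv_cancel_right]

theorem chi_sub (n : N) : Red.chi S (n : D.M) = Red.DSmap S N.subtype ≫ Red.chi S n := by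
  rw [Red.chi, Red.chi, BorSpan613.DSmap_comp_DSmap]
  congr 1

section data

variable {G' : Over S} [GrpObj G'] (q : G ⟶ G') [IsMonHom q] (hN : ∀ a : D.idx, D.P.root a ∈ N)
  (hq : RedSub.IsQuotient (zt D N ≫ D.i) q) (i' : Red.DS S N ⟶ G') [IsMonHom i'] (hi' : pt D N ≫ i' = D.i ≫ q)

include hq hi' in
/-- root homomorphisms of the quotient -/
theorem isRootHom_quot (a : D.idx) : Red.IsRootHom i' (Red.chi S (⟨D.P.root a, hN a⟩ : N)) (D.u a ≫ q) := by
  have huh : IsMonHom (D.u a) := (D.rootHom a).1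
  refine ⟨inferInstance, isClosedImmersion_uq D (zt D N) (isClosedImmersion_zt D N) q hq (central D hN) a, ?_⟩
  intro X t x
  refine ⟨GaPts.gaPt X (Red.gmFn (t ≫ Red.chi S (⟨D.P.root a, hN a⟩ : N)) * Red.gaFn x), ?_, GaPts.gaFn_gaPt _ _⟩
  obtain ⟨X', c, t', hc, ht'⟩ := exists_lift_local (isCov_pr S N) t
  apply Fppf.hom_ext hc
  obtain ⟨y, hy, hy'⟩ := (D.rootHom a).2.2 X' (t' ≫ D.split.inv.hom.hom) (c ≫ x)
  have e1 : c ≫ GaPts.gaPt X (Red.gmFn (t ≫ Red.chi S (⟨D.P.root a, hN a⟩ : N)) * Red.gaFn x) = y := by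
    apply GaPts.gaFn_injective
    rw [GaPts.gaFn_comp, GaPts.gaFn_gaPt, map_mul, ← GaPts.gaFn_comp, hy']
    congr 1
    have e2 : Red.gmFn (c ≫ t ≫ Red.chi S (⟨D.P.root a, hN a⟩ : N)) =
        c.left.appTop (Red.gmFn (t ≫ Red.chi S (⟨D.P.root a, hN a⟩ : N))) := by
      rw [Red.gmFn, Red.gmFn, Over.comp_left, Category.assoc, Scheme.Hom.comp_appTop]
      rfl
    rw [← e2, ← Category.assoc, ← ht', Category.assoc, ← chi_sub D (⟨D.P.root a, hN a⟩ : N), Category.assoc,
      ← Category.assoc D.split.inv.hom.hom, split_inv_hom, Category.id_comp]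
  have e3 : (t' ≫ D.split.inv.hom.hom) ≫ D.i ≫ q = c ≫ t ≫ i' := by
    rw [← hi', pt, Category.assoc, Category.assoc, ← Category.assoc D.split.inv.hom.hom, split_inv_hom,
      Category.id_comp, ← Category.assoc, ht', Category.assoc]
  rw [← Category.assoc, ← Category.assoc, e1, hy, mul_comp, mul_comp, inv_comp, MonObj.comp_mul, MonObj.comp_mul,
    GrpObj.comp_inv]
  simp only [Category.assoc] at e3 ⊢
  rw [e3]

include hi' in
omit [IsMonHom i'] in
/-- reflections of the quotient -/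
theorem refl_quot (a : D.idx) : ∃ n : 𝟙_ (Over S) ⟶ G', ∀ (X : Over S) (t : X ⟶ Red.DS S N),
    (toUnit X ≫ n) * (t ≫ i') * (toUnit X ≫ n)⁻¹ =
      t ≫ Red.DSmap S ((SubDatum.sub D.pairing_eq hN).reflection a).toLinearMap.toAddMonoidHom ≫ i' := by
  obtain ⟨n, hn⟩ := D.refl a
  refine ⟨n ≫ q, fun X t => ?_⟩
  obtain ⟨X', c, t', hc, ht'⟩ := exists_lift_local (isCov_pr S N) t
  apply Fppf.hom_ext hc
  have h1 := congrArg (fun z => z ≫ q) (hn X' (t' ≫ D.split.inv.hom.hom))
  dsimp only at h1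
  rw [mul_comp, mul_comp, inv_comp] at h1
  have e3 : t' ≫ Red.DSmap S N.subtype ≫ i' = c ≫ t ≫ i' := by
    rw [← Category.assoc, ht', Category.assoc]
  have e4 : D.split.inv.hom.hom ≫ D.i ≫ q = Red.DSmap S N.subtype ≫ i' := by
    rw [← hi', pt, Category.assoc, ← Category.assoc D.split.inv.hom.hom, split_inv_hom, Category.id_comp]
  have e5 : Red.DSmap S (D.P.reflection a).toLinearMap.toAddMonoidHom ≫ Red.DSmap S N.subtype =
      Red.DSmap S N.subtype ≫ Red.DSmap S ((SubDatum.sub D.pairing_eq hN).reflection a).toLinearMap.toAddMonoidHom := by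
    rw [BorSpan613.DSmap_comp_DSmap, BorSpan613.DSmap_comp_DSmap]
    congr 1
    ext m
    exact (SubDatum.sub_reflection D.pairing_eq hN a m).symm
  rw [MonObj.comp_mul, MonObj.comp_mul, GrpObj.comp_inv]
  simp only [Category.assoc] at h1 ⊢
  rw [← Category.assoc D.split.inv.hom.hom D.split.hom.hom.hom, split_inv_hom, Category.id_comp, e4, e3] at h1
  have e6 : ∀ n : 𝟙_ (Over S) ⟶ G, toUnit X' ≫ n ≫ q = c ≫ toUnit X ≫ n ≫ q := by
    intro n
    rw [← Category.assoc c, Subsingleton.elim (c ≫ toUnit X) (toUnit X')]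
  rw [e6] at h1
  rw [h1, ← Category.assoc (Red.DSmap S _) (Red.DSmap S N.subtype), e5, Category.assoc, ← Category.assoc t', ht',
    Category.assoc]

omit [IsMonHom q] in
include hq in
/-- dimension of the quotient -/
theorem dim_quot_split [IsMonHom q] (hG'a : IsAffineHom G'.hom) (hG's : Smooth G'.hom) (s : S) :
    topologicalKrullDim ↥(Red.geomFibre s G').left =
      ((Module.finrank ℤ N + Fintype.card D.idx : ℕ) : WithBot ℕ∞) := by
  have := SubDatum.free_sub N
  have := SubDatum.finite_sub N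
  have hGa := D.reductive.1
  have hGs := D.reductive.2.1
  have hi := D.maximalTorus.2.1
  have hih := D.maximalTorus.1
  have hTa := TorusAlgClosed.isAffineHom_of_isTorus D.maximalTorus.2.2.1
  have hTs := TorusAlgClosed.smooth_of_isTorus D.maximalTorus.2.2.1
  have hNa := ds_isAffineHom S N
  have hNs := ds_smooth S N
  have h1 := dim_quot (zt D N ≫ D.i) q hq inferInstance inferInstance inferInstance inferInstance s
  have h2 := dim_quot (zt D N) (pt D N) (isQuotient_pt D N) inferInstance inferInstance inferInstance inferInstance s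
  rw [D.dim_fibre s] at h1
  rw [dim_ds s N] at h2
  have h3 : topologicalKrullDim ↥(Red.geomFibre s D.T).left = ((Module.finrank ℤ D.M : ℕ) : WithBot ℕ∞) :=
    Groth.Agent.Sga3.H816.TorusDim.topologicalKrullDim_of_split ⟨(Over.pullback _).mapGrp.mapIso D.split ≪≫
      TorusAlgClosed.dsBcIso _ D.M ≪≫ (Trans894.DSiso _ (Module.finBasis ℤ D.M).equivFun.toAddEquiv).symm⟩
  rw [h3] at h2
  have hcl := isClosedImmersion_zt D N
  have hZf : LocallyOfFiniteType (Red.DS S (D.M ⧸ N)).hom := by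
    rw [← Over.w (zt D N)]
    infer_instance
  have a1 : LocallyOfFiniteType (Red.geomFibre s (Red.DS S (D.M ⧸ N))).hom :=
    MorphismProperty.pullback_snd (P := @LocallyOfFiniteType) _ _ hZf
  have a2 : LocallyOfFiniteType (Red.geomFibre s G').hom :=
    MorphismProperty.pullback_snd (P := @LocallyOfFiniteType) _ _ inferInstance
  obtain ⟨d, hd⟩ := K517.Img.exists_dim (Red.geomFibre s (Red.DS S (D.M ⧸ N)))
  obtain ⟨x, hx⟩ := K517.Img.exists_dim (Red.geomFibre s G')
  rw [hd, hx] at h1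
  rw [hd] at h2
  rw [hx]
  have h1' : Module.finrank ℤ D.M + Fintype.card D.idx = x + d := by exact_mod_cast h1
  have h2' : Module.finrank ℤ D.M = Module.finrank ℤ N + d := by exact_mod_cast h2
  have : x = Module.finrank ℤ N + Fintype.card D.idx := by omega
  rw [this]

end data

/-- **The quotient of a split reductive group by a central diagonalizable subgroup is split.** -/
theorem main (hN : ∀ a : D.idx, D.P.root a ∈ N) :
    ∃ (G' : Over S) (_ : GrpObj G') (q : G ⟶ G'), IsMonHom q ∧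
      RedSub.IsQuotient (Red.DSmap S (QuotientAddGroup.mk' N) ≫ D.split.inv.hom.hom ≫ D.i) q ∧
      Red.IsReductive G' ∧
      ∃ (D' : Red.SplitRed G') (τ : D.T ⟶ D'.T) (eidx : D.idx ≃ D'.idx) (em : D'.M ≃+ ↥N),
        τ ≫ D'.i = D.i ≫ q ∧
        τ ≫ D'.split.hom.hom.hom = D.split.hom.hom.hom ≫ Red.DSmap S (N.subtype.comp em.toAddMonoidHom) ∧
        (∀ a : D.idx, ((em (D'.P.root (eidx a)) : ↥N) : D.M) = D.P.root a) ∧
        (∀ a : D.idx, D.u a ≫ q = D'.u (eidx a)) ∧
        (∀ (a : D.idx) (m : D'.M), D'.P.coroot (eidx a) m = D.P.coroot a ((em m : ↥N) : D.M)) := by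
  have := SubDatum.free_sub N
  have := SubDatum.finite_sub N
  have hi := D.maximalTorus.2.1
  have hih := D.maximalTorus.1
  have hcl := isClosedImmersion_zt D N
  have hicl := TorClosed636.isClosedImmersion_of_isMaximalTorus D.reductive D.maximalTorus
  have hcl' : IsClosedImmersion (zt D N ≫ D.i).left := by
    rw [Over.comp_left]
    infer_instance
  obtain ⟨G', q, hG'a, hG's, hq⟩ := QuotDS.exists_quotient (zt D N ≫ D.i) D.reductive.1 D.reductive.2.1 hcl'
    (D.M ⧸ N) (Iso.refl _)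
  obtain ⟨hgrp, hqh, -⟩ := Groth.Agent.S5236.result (zt D N ≫ D.i) (isNormalHom D hN) q hq
  obtain ⟨i', hi'h, hi'm, hi'⟩ := exists_torus (zt D N) (pt D N) (isQuotient_pt D N) D.i q hq (isNormalHom_zt D)
  have hred := isReductive_quot (zt D N ≫ D.i) q hq D.reductive hG'a hG's
  let D' : Red.SplitRed G' := {
    T := Red.DS S N
    i := i'
    M := N
    idx := D.idx
    P := SubDatum.sub D.pairing_eq hN
    pairing_eq := rfl
    u := fun a => D.u a ≫ q
    reductive := hred
    maximalTorus := isMaximalTorus_quot (zt D N) (pt D N) D.i q hq i' hi' D.reductive D.maximalTorus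
      (Trans894.isTorus_DS S N) hG'a (central D hN)
    split := Iso.refl _
    rootHom := fun a => by
      have h1 := isRootHom_quot D q hN hq i' hi' a
      have h2 : (Iso.refl (Grp.mk (Red.DS S N))).hom.hom.hom ≫ Red.chi S ((SubDatum.sub D.pairing_eq hN).root a) =
          Red.chi S (⟨D.P.root a, hN a⟩ : N) := Category.id_comp _
      rw [h2]
      exact h1
    refl := fun a => by
      obtain ⟨n, hn⟩ := refl_quot D q hN i' hi' a
      refine ⟨n, fun X t => (hn X t).trans ?_⟩
      change _ = t ≫ 𝟙 _ ≫ Red.DSmap S _ ≫ 𝟙 _ ≫ i'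
      rw [Category.id_comp, Category.id_comp]
    dim_fibre := fun s => dim_quot_split D q hq hG'a hG's s }
  refine ⟨G', hgrp, q, hqh, ?_, hred, D', pt D N, Equiv.refl _, AddEquiv.refl _, hi', ?_, fun a => rfl, fun a => rfl,
    fun a m => rfl⟩
  · have : Red.DSmap S (QuotientAddGroup.mk' N) ≫ D.split.inv.hom.hom ≫ D.i = zt D N ≫ D.i := by
      rw [zt, Category.assoc]
    rw [this]
    exact hq
  · exact Category.comp_id _

end K208.QSplit
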