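import Groth.Agent.Sga3B.RepDescent9

/-!
# Étale gluing of affine schemes given by transition maps on points

`Dat S`: an étale family `v j : V j ⟶ S`, schemes `E j` over `V j`, and transition maps on points
`φ b c : E i (b) → E j (c)` for two points `b : R ⟶ V i`, `c : R ⟶ V j` with the same image in `S`, natural, reflexive and
transitive.  If the family covers `S`, the `V j` are affine and the `E j` are affine over `V j`, the functor `F` of
compatible families is representable (`exists_rep`) by a scheme affine over `S`, and over `V j` it is `E j`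
(`homEquivLoc`).
-/

set_option autoImplicit false
universe u

open CategoryTheory CategoryTheory.Limits MonoidalCategory CartesianMonoidalCategory MonObj GrpObj AlgebraicGeometry
  Opposite

namespace K208.EtGlue

open Groth.Agent.Sga3B.RepDescent

section res

variable {V : Scheme.{u}} {E : Over V}

/-- Restriction of a point along `r : R' ⟶ R`. -/
noncomputable def res {R R' : Scheme.{u}} (r : R' ⟶ R) {b : R ⟶ V} {b' : R' ⟶ V} (h : r ≫ b = b')
    (x : Over.mk b ⟶ E) : Over.mk b' ⟶ E :=
  (Over.homMk r h : Over.mk b' ⟶ Over.mk b) ≫ x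

@[simp]
theorem res_left {R R' : Scheme.{u}} (r : R' ⟶ R) {b : R ⟶ V} {b' : R' ⟶ V} (h : r ≫ b = b')
    (x : Over.mk b ⟶ E) : (res r h x).left = r ≫ x.left := rfl

theorem res_res {R R' R'' : Scheme.{u}} (r : R' ⟶ R) (s : R'' ⟶ R') {b : R ⟶ V} {b' : R' ⟶ V} {b'' : R'' ⟶ V}
    (h : r ≫ b = b') (h' : s ≫ b' = b'') (x : Over.mk b ⟶ E) :
    res s h' (res r h x) = res (s ≫ r) (by rw [Category.assoc, h, h']) x := by
  ext
  simp

theorem res_id {R : Scheme.{u}} {b : R ⟶ V} (h : 𝟙 R ≫ b = b) (x : Over.mk b ⟶ E) : res (𝟙 R) h x = x := by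
  ext
  simp

theorem res_mul [GrpObj E] {R R' : Scheme.{u}} (r : R' ⟶ R) {b : R ⟶ V} {b' : R' ⟶ V} (h : r ≫ b = b')
    (x y : Over.mk b ⟶ E) : res r h (x * y) = res r h x * res r h y := comp_mul _ _ _

theorem res_comp {E' : Over V} {R R' : Scheme.{u}} (r : R' ⟶ R) {b : R ⟶ V} {b' : R' ⟶ V} (h : r ≫ b = b')
    (x : Over.mk b ⟶ E) (g : E ⟶ E') : res r h (x ≫ g) = res r h x ≫ g := (Category.assoc _ _ _).symm

/-- points which agree on an étale cover are equal -/
theorem eq_of_cover {R : Scheme.{u}} {b : R ⟶ V} {K : Type u} (R' : K → Scheme.{u}) (r : ∀ k, R' k ⟶ R)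
    (hr : ∀ k, Etale (r k)) (hc : ∀ t : R, ∃ (k : K) (t' : R' k), r k t' = t) (x y : Over.mk b ⟶ E)
    (h : ∀ k, r k ≫ x.left = r k ≫ y.left) : x = y := by
  obtain ⟨z, -, hz'⟩ := exists_glue R' r hr hc (fun k => r k ≫ x.left) (by
    intro i j T p q hpq
    rw [← Category.assoc, ← Category.assoc, hpq])
  ext
  rw [hz' x.left fun k => rfl, hz' y.left fun k => (h k).symm]

end res

/-- An étale gluing datum, on points. -/
structure Dat (S : Scheme.{u}) where
  /-- index type -/
  J : Type u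
  /-- the étale schemes -/
  V : J → Scheme.{u}
  /-- the étale maps -/
  v : ∀ j, V j ⟶ S
  /-- the local pieces -/
  E : ∀ j, Over (V j)
  /-- transition maps -/
  φ : ∀ {i j : J} {R : Scheme.{u}} (b : R ⟶ V i) (c : R ⟶ V j), b ≫ v i = c ≫ v j → (Over.mk b ⟶ E i) → (Over.mk c ⟶ E j)
  φ_nat : ∀ {i j : J} {R R' : Scheme.{u}} (r : R' ⟶ R) (b : R ⟶ V i) (c : R ⟶ V j) (h : b ≫ v i = c ≫ v j)
    (h' : (r ≫ b) ≫ v i = (r ≫ c) ≫ v j) (x : Over.mk b ⟶ E i),
    φ (r ≫ b) (r ≫ c) h' (res r rfl x) = res r rfl (φ b c h x)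
  φ_self : ∀ {i : J} {R : Scheme.{u}} (b : R ⟶ V i) (x : Over.mk b ⟶ E i), φ b b rfl x = x
  φ_comp : ∀ {i j k : J} {R : Scheme.{u}} (b : R ⟶ V i) (c : R ⟶ V j) (d : R ⟶ V k) (h : b ≫ v i = c ≫ v j)
    (h' : c ≫ v j = d ≫ v k) (x : Over.mk b ⟶ E i), φ c d h' (φ b c h x) = φ b d (h.trans h') x

variable {S : Scheme.{u}} (D : Dat S)

namespace Dat

theorem φ_nat' {i j : D.J} {R R' : Scheme.{u}} (r : R' ⟶ R) {b : R ⟶ D.V i} {c : R ⟶ D.V j} (h : b ≫ D.v i = c ≫ D.v j)
    {b' : R' ⟶ D.V i} {c' : R' ⟶ D.V j} (hb : r ≫ b = b') (hc : r ≫ c = c') (h' : b' ≫ D.v i = c' ≫ D.v j)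
    (x : Over.mk b ⟶ D.E i) : D.φ b' c' h' (res r hb x) = res r hc (D.φ b c h x) := by
  subst hb hc
  exact D.φ_nat r b c h h' x

/-- evaluation of a point over `T × V j` -/
noncomputable def ev {T : Over S} {j : D.J} (x : Over.mk (pullback.snd T.hom (D.v j)) ⟶ D.E j) {R : Scheme.{u}}
    (a : R ⟶ T.left) (b : R ⟶ D.V j) (h : a ≫ T.hom = b ≫ D.v j) : Over.mk b ⟶ D.E j :=
  res (pullback.lift a b h) (pullback.lift_snd _ _ _) x

theorem ev_res {T : Over S} {j : D.J} (x : Over.mk (pullback.snd T.hom (D.v j)) ⟶ D.E j) {R R' : Scheme.{u}}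
    (a : R ⟶ T.left) (b : R ⟶ D.V j) (h : a ≫ T.hom = b ≫ D.v j) (r : R' ⟶ R) {b' : R' ⟶ D.V j} (hb : r ≫ b = b') :
    res r hb (D.ev x a b h) = D.ev x (r ≫ a) b' (by rw [Category.assoc, h, ← hb, Category.assoc]) := by
  subst hb
  rw [ev, ev, res_res]
  congr 1
  apply pullback.hom_ext
  · rw [Category.assoc, pullback.lift_fst, pullback.lift_fst]
  · rw [Category.assoc, pullback.lift_snd, pullback.lift_snd]

theorem ev_self {T : Over S} {j : D.J} (x : Over.mk (pullback.snd T.hom (D.v j)) ⟶ D.E j) :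
    D.ev x (pullback.fst T.hom (D.v j)) (pullback.snd T.hom (D.v j)) pullback.condition = x := by
  rw [ev]
  have h : pullback.lift (pullback.fst T.hom (D.v j)) (pullback.snd T.hom (D.v j)) pullback.condition = 𝟙 _ := by
    apply pullback.hom_ext <;> simp
  ext
  rw [res_left, h, Category.id_comp]

theorem ext_ev {T : Over S} {j : D.J} {x y : Over.mk (pullback.snd T.hom (D.v j)) ⟶ D.E j}
    (h : ∀ (R : Scheme.{u}) (a : R ⟶ T.left) (b : R ⟶ D.V j) (h : a ≫ T.hom = b ≫ D.v j), D.ev x a b h = D.ev y a b h) :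
    x = y := by
  rw [← D.ev_self x, ← D.ev_self y]
  exact h _ _ _ _

/-- compatible families -/
def Compat (T : Over S) (x : ∀ j, Over.mk (pullback.snd T.hom (D.v j)) ⟶ D.E j) : Prop :=
  ∀ (i j : D.J) (R : Scheme.{u}) (a : R ⟶ T.left) (b : R ⟶ D.V i) (c : R ⟶ D.V j) (hb : a ≫ T.hom = b ≫ D.v i)
    (hc : a ≫ T.hom = c ≫ D.v j), D.φ b c (hb.symm.trans hc) (D.ev (x i) a b hb) = D.ev (x j) a c hc

/-- restriction of families -/
noncomputable def mapFam {T T' : Over S} (g : T' ⟶ T) (x : ∀ j, Over.mk (pullback.snd T.hom (D.v j)) ⟶ D.E j) (j : D.J) :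
    Over.mk (pullback.snd T'.hom (D.v j)) ⟶ D.E j :=
  D.ev (x j) (pullback.fst T'.hom (D.v j) ≫ g.left) (pullback.snd T'.hom (D.v j))
    (by rw [Category.assoc, Over.w, pullback.condition])

theorem ev_mapFam {T T' : Over S} (g : T' ⟶ T) (x : ∀ j, Over.mk (pullback.snd T.hom (D.v j)) ⟶ D.E j) (j : D.J)
    {R : Scheme.{u}} (a : R ⟶ T'.left) (b : R ⟶ D.V j) (h : a ≫ T'.hom = b ≫ D.v j) :
    D.ev (D.mapFam g x j) a b h = D.ev (x j) (a ≫ g.left) b (by rw [Category.assoc, Over.w, h]) := by
  rw [ev, mapFam, ev_res]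
  congr 1
  rw [← Category.assoc, pullback.lift_fst]

theorem compat_mapFam {T T' : Over S} (g : T' ⟶ T) {x : ∀ j, Over.mk (pullback.snd T.hom (D.v j)) ⟶ D.E j}
    (hx : D.Compat T x) : D.Compat T' (D.mapFam g x) := by
  intro i j R a b c hb hc
  rw [ev_mapFam, ev_mapFam]
  exact hx i j R _ b c _ _

/-- The functor of compatible families. -/
noncomputable def F : (Over S)ᵒᵖ ⥤ Type u where
  obj T := {x : ∀ j, Over.mk (pullback.snd T.unop.hom (D.v j)) ⟶ D.E j // D.Compat T.unop x}
  map g := ↾fun x => ⟨D.mapFam g.unop x.1, D.compat_mapFam g.unop x.2⟩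
  map_id T := by
    refine ConcreteCategory.hom_ext _ _ fun x => ?_
    apply Subtype.ext
    funext j
    apply D.ext_ev
    intro R a b h
    change D.ev (D.mapFam (𝟙 T.unop) x.1 j) a b h = D.ev (x.1 j) a b h
    rw [ev_mapFam]
    congr 1
  map_comp {T T' T''} g g' := by
    refine ConcreteCategory.hom_ext _ _ fun x => ?_
    apply Subtype.ext
    funext j
    apply D.ext_ev
    intro R a b h
    change D.ev (D.mapFam (g'.unop ≫ g.unop) x.1 j) a b h = D.ev (D.mapFam g'.unop (D.mapFam g.unop x.1) j) a b h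
    rw [ev_mapFam, ev_mapFam, ev_mapFam]
    congr 1

theorem F_map {T T' : Over S} (g : T' ⟶ T) (x : {x : ∀ j, Over.mk (pullback.snd T.hom (D.v j)) ⟶ D.E j // D.Compat T x}) :
    D.F.map g.op x = (⟨D.mapFam g x.1, D.compat_mapFam g x.2⟩ :
      {x : ∀ j, Over.mk (pullback.snd T'.hom (D.v j)) ⟶ D.E j // D.Compat T' x}) := rfl

theorem F_ext {T : Over S} {x y : {x : ∀ j, Over.mk (pullback.snd T.hom (D.v j)) ⟶ D.E j // D.Compat T x}}
    (h : ∀ (j : D.J) (R : Scheme.{u}) (a : R ⟶ T.left) (b : R ⟶ D.V j)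
    (h : a ≫ T.hom = b ≫ D.v j), D.ev (x.1 j) a b h = D.ev (y.1 j) a b h) : x = y :=
  Subtype.ext (funext fun j => D.ext_ev (h j))

theorem mapFam_comp {T T' T'' : Over S} (g : T' ⟶ T) (g' : T'' ⟶ T')
    (x : ∀ j, Over.mk (pullback.snd T.hom (D.v j)) ⟶ D.E j) (j : D.J) :
    D.mapFam g' (D.mapFam g x) j = D.mapFam (g' ≫ g) x j := by
  apply D.ext_ev
  intro R a b h
  rw [ev_mapFam, ev_mapFam, ev_mapFam]
  congr 1

/-- étale base change of a cover -/
theorem cover_pullback {T : Scheme.{u}} {K : Type u} (T' : K → Scheme.{u}) (f : ∀ k, T' k ⟶ T)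
    (hT : ∀ t : T, ∃ (k : K) (t' : T' k), f k t' = t) {R : Scheme.{u}} (a : R ⟶ T) :
    ∀ t : R, ∃ (k : K) (t' : (pullback a (f k) : Scheme.{u})), pullback.fst a (f k) t' = t := by
  intro t
  obtain ⟨k, t', h⟩ := hT (a t)
  obtain ⟨z, hz, -⟩ := Scheme.Pullback.exists_preimage_pullback t t' h.symm
  exact ⟨k, z, hz⟩

theorem isEtSheaf_F : IsEtSheaf D.F := by
  intro T K T' f hf hT x hx
  let x' : ∀ k, {x : ∀ j, Over.mk (pullback.snd (T' k).hom (D.v j)) ⟶ D.E j // D.Compat (T' k) x} := x
  have hx' : ∀ (k l : K) (R : Over S) (a : R ⟶ T' k) (b : R ⟶ T' l), a ≫ f k = b ≫ f l →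
      ∀ j, D.mapFam a (x' k).1 j = D.mapFam b (x' l).1 j := fun k l R a b h j =>
    congrFun (congrArg Subtype.val (hx k l R a b h)) j
  -- glue each component
  have key : ∀ j, ∃! y : Over.mk (pullback.snd T.hom (D.v j)) ⟶ D.E j,
      ∀ (k : K) (R : Scheme.{u}) (a : R ⟶ (T' k).left) (b : R ⟶ D.V j) (h : a ≫ (T' k).hom = b ≫ D.v j),
        D.ev y (a ≫ (f k).left) b (by rw [Category.assoc, Over.w, h]) = D.ev ((x' k).1 j) a b h := by
    intro j
    let P : K → Over (D.V j) := fun k => Over.mk (pullback.snd (T' k).hom (D.v j))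
    have hlift : ∀ k, (pullback.fst (T' k).hom (D.v j) ≫ (f k).left) ≫ T.hom = pullback.snd (T' k).hom (D.v j) ≫ D.v j :=
      fun k => by rw [Category.assoc, Over.w, pullback.condition]
    let g : ∀ k, P k ⟶ Over.mk (pullback.snd T.hom (D.v j)) := fun k =>
      Over.homMk (pullback.lift (pullback.fst (T' k).hom (D.v j) ≫ (f k).left) (pullback.snd (T' k).hom (D.v j)) (hlift k))
        (pullback.lift_snd _ _ _)
    have hpb : ∀ k, IsPullback (g k).left (pullback.fst (T' k).hom (D.v j)) (pullback.fst T.hom (D.v j)) (f k).left := by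
      intro k
      have h1 : IsPullback ((g k).left ≫ pullback.snd T.hom (D.v j)) (pullback.fst (T' k).hom (D.v j)) (D.v j)
          ((f k).left ≫ T.hom) := by
        rw [Over.w, show (g k).left ≫ pullback.snd T.hom (D.v j) = pullback.snd (T' k).hom (D.v j) from
          pullback.lift_snd _ _ _]
        exact (IsPullback.of_hasPullback _ _).flip
      exact IsPullback.of_right h1 (pullback.lift_fst _ _ _) (IsPullback.of_hasPullback T.hom (D.v j)).flip
    have hg : ∀ k, Etale (g k).left := fun k => MorphismProperty.of_isPullback (P := @Etale) (hpb k).flip (hf k)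
    have hc : ∀ t : (Over.mk (pullback.snd T.hom (D.v j))).left, ∃ (k : K) (t' : (P k).left), (g k).left t' = t := by
      intro t
      obtain ⟨k, t', h⟩ := hT (pullback.fst T.hom (D.v j) t)
      obtain ⟨z, hz, -⟩ := Scheme.Pullback.exists_preimage_pullback t t' h.symm
      refine ⟨k, (hpb k).isoPullback.inv z, ?_⟩
      rw [← Scheme.Hom.comp_apply, (hpb k).isoPullback_inv_fst]
      exact hz
    obtain ⟨y, hy, hy'⟩ := isEtSheaf_yoneda (D.E j) P g hg hc (fun k => (x' k).1 j) (by
      intro k l R a b hab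
      have e1 : a.left ≫ pullback.fst (T' k).hom (D.v j) ≫ (f k).left = b.left ≫ pullback.fst (T' l).hom (D.v j) ≫ (f l).left := by
        have := congrArg (fun z => z.left ≫ pullback.fst T.hom (D.v j)) hab
        simp only [Over.comp_left, Category.assoc] at this
        erw [pullback.lift_fst, pullback.lift_fst] at this
        exact this
      have e2 : (a.left ≫ pullback.fst (T' k).hom (D.v j)) ≫ (T' k).hom = R.hom ≫ D.v j := by
        rw [Category.assoc, pullback.condition, ← Category.assoc]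
        exact congrArg (· ≫ D.v j) (Over.w a)
      have e3 : (b.left ≫ pullback.fst (T' l).hom (D.v j)) ≫ (T' l).hom = R.hom ≫ D.v j := by
        rw [Category.assoc, pullback.condition, ← Category.assoc]
        exact congrArg (· ≫ D.v j) (Over.w b)
      let Q : Over S := Over.mk (R.hom ≫ D.v j)
      let a' : Q ⟶ T' k := Over.homMk (a.left ≫ pullback.fst (T' k).hom (D.v j)) e2
      let b' : Q ⟶ T' l := Over.homMk (b.left ≫ pullback.fst (T' l).hom (D.v j)) e3
      have h1 := hx' k l Q a' b' (by ext; simpa [a', b'] using e1) j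
      have h2 := congrArg (fun z => D.ev z (𝟙 _) R.hom (by simp [Q])) h1
      rw [ev_mapFam, ev_mapFam] at h2
      have h3 : ∀ (m : K) (c : R ⟶ P m) (h), D.ev ((x' m).1 j) (𝟙 _ ≫ (c.left ≫ pullback.fst (T' m).hom (D.v j))) R.hom h =
          c ≫ (x' m).1 j := by
        intro m c h
        rw [ev]
        ext
        rw [res_left, Over.comp_left]
        congr 1
        apply pullback.hom_ext
        · rw [pullback.lift_fst, Category.id_comp]
        · rw [pullback.lift_snd]
          exact (Over.w c).symm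
      have h4 := h3 k a (by rw [Category.id_comp]; exact e2)
      have h5 := h3 l b (by rw [Category.id_comp]; exact e3)
      change a ≫ (x' k).1 j = b ≫ (x' l).1 j
      rw [← h4, ← h5]
      exact h2)
    have conv : ∀ (z : Over.mk (pullback.snd T.hom (D.v j)) ⟶ D.E j) (k : K) (R : Scheme.{u}) (a : R ⟶ (T' k).left)
        (b : R ⟶ D.V j) (h : a ≫ (T' k).hom = b ≫ D.v j),
        D.ev z (a ≫ (f k).left) b (by rw [Category.assoc, Over.w, h]) = res (pullback.lift a b h) (pullback.lift_snd _ _ _) (g k ≫ z) := by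
      intro z k R a b h
      ext
      rw [ev, res_left, res_left, Over.comp_left]
      have : pullback.lift (a ≫ (f k).left) b (by rw [Category.assoc, Over.w, h]) = pullback.lift a b h ≫ (g k).left := by
        apply pullback.hom_ext
        · rw [pullback.lift_fst, Category.assoc]
          erw [pullback.lift_fst]
          rw [← Category.assoc, pullback.lift_fst]
        · rw [pullback.lift_snd, Category.assoc]
          erw [pullback.lift_snd]
          rw [pullback.lift_snd]
      rw [this, Category.assoc]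
    refine ⟨y, ?_, ?_⟩
    · intro k R a b h
      rw [conv]
      have h1 : g k ≫ y = (x' k).1 j := hy k
      rw [h1]
      rfl
    · intro z hz
      refine hy' z fun k => ?_
      change g k ≫ z = (x' k).1 j
      have h1 := hz k _ (pullback.fst (T' k).hom (D.v j)) (pullback.snd (T' k).hom (D.v j)) pullback.condition
      rw [conv z k _ _ _ pullback.condition, D.ev_self] at h1
      rw [← h1]
      ext
      rw [res_left]
      have : pullback.lift (pullback.fst (T' k).hom (D.v j)) (pullback.snd (T' k).hom (D.v j)) pullback.condition = 𝟙 _ := by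
        apply pullback.hom_ext <;> simp
      rw [this, Category.id_comp]
  choose y hy hy' using key
  dsimp only at hy hy'
  have hcompat : D.Compat T y := by
    intro i j R a b c hb hc
    refine eq_of_cover (fun k => (pullback a (f k).left : Scheme.{u})) (fun k => pullback.fst a (f k).left) (fun k => ?_)
      (cover_pullback (fun k => (T' k).left) (fun k => (f k).left) hT a) _ _ fun k => ?_
    · have := hf k
      infer_instance
    · have hq : (pullback.snd a (f k).left) ≫ (T' k).hom = (pullback.fst a (f k).left ≫ b) ≫ D.v i := by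
        rw [← Over.w (f k), ← Category.assoc, ← pullback.condition, Category.assoc, hb, Category.assoc]
      have hq' : (pullback.snd a (f k).left) ≫ (T' k).hom = (pullback.fst a (f k).left ≫ c) ≫ D.v j := by
        rw [← Over.w (f k), ← Category.assoc, ← pullback.condition, Category.assoc, hc, Category.assoc]
      have h1 := (x' k).2 i j _ (pullback.snd a (f k).left) (pullback.fst a (f k).left ≫ b) (pullback.fst a (f k).left ≫ c) hq hq'
      rw [← hy i k _ _ _ hq, ← hy j k _ _ _ hq'] at h1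
      have h2 : D.ev (y i) (pullback.snd a (f k).left ≫ (f k).left) (pullback.fst a (f k).left ≫ b)
          (by rw [Category.assoc, Over.w, hq]) = res (pullback.fst a (f k).left) rfl (D.ev (y i) a b hb) := by
        rw [ev_res]
        congr 1
        exact pullback.condition.symm
      have h3 : D.ev (y j) (pullback.snd a (f k).left ≫ (f k).left) (pullback.fst a (f k).left ≫ c)
          (by rw [Category.assoc, Over.w, hq']) = res (pullback.fst a (f k).left) rfl (D.ev (y j) a c hc) := by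
        rw [ev_res]
        congr 1
        exact pullback.condition.symm
      rw [h2, h3, D.φ_nat _ _ _ (hb.symm.trans hc)] at h1
      exact congrArg (fun z => z.left) h1
  refine ⟨(⟨y, hcompat⟩ : {x : ∀ j, Over.mk (pullback.snd T.hom (D.v j)) ⟶ D.E j // D.Compat T x}), ?_, ?_⟩
  · intro k
    change (⟨D.mapFam (f k) y, _⟩ : {x : ∀ j, Over.mk (pullback.snd (T' k).hom (D.v j)) ⟶ D.E j // D.Compat (T' k) x}) = x' k
    apply D.F_ext
    intro j R a b h
    rw [ev_mapFam]
    exact hy j k R a b h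
  · intro z hz
    let z' : {x : ∀ j, Over.mk (pullback.snd T.hom (D.v j)) ⟶ D.E j // D.Compat T x} := z
    change z' = _
    apply Subtype.ext
    funext j
    refine hy' j (z'.1 j) fun k R a b h => ?_
    have h1 : D.mapFam (f k) z'.1 = (x' k).1 := congrArg Subtype.val (hz k)
    rw [← h1, ev_mapFam]

theorem φ_congr {i j : D.J} {R : Scheme.{u}} {b b' : R ⟶ D.V i} {c : R ⟶ D.V j} (hb : b = b') (h : b ≫ D.v i = c ≫ D.v j)
    (h' : b' ≫ D.v i = c ≫ D.v j) (x : Over.mk b ⟶ D.E i) (x' : Over.mk b' ⟶ D.E i) (hx : x.left = x'.left) :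
    D.φ b c h x = D.φ b' c h' x' := by
  subst hb
  congr 1
  ext
  exact hx

/-- a point as a point over a morphism of schemes -/
noncomputable def ptOf {V : Scheme.{u}} {E T : Over V} (y : T ⟶ E) : Over.mk T.hom ⟶ E := Over.homMk y.left (Over.w y)

theorem ptOf_left {V : Scheme.{u}} {E T : Over V} (y : T ⟶ E) : (ptOf y).left = y.left := rfl

/-- the family defined by a point of `E j` -/
noncomputable def locFam (j : D.J) {T : Over (D.V j)} (y : T ⟶ D.E j) (k : D.J) :
    Over.mk (pullback.snd (Over.mk (T.hom ≫ D.v j)).hom (D.v k)) ⟶ D.E k :=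
  D.φ (pullback.fst (T.hom ≫ D.v j) (D.v k) ≫ T.hom) (pullback.snd (T.hom ≫ D.v j) (D.v k))
    ((Category.assoc _ _ _).trans pullback.condition) (res (pullback.fst _ _) rfl (ptOf y))

theorem ev_locFam (j : D.J) {T : Over (D.V j)} (y : T ⟶ D.E j) (k : D.J) {R : Scheme.{u}} (a : R ⟶ T.left)
    (b : R ⟶ D.V k) (h : a ≫ T.hom ≫ D.v j = b ≫ D.v k) :
    D.ev (T := Over.mk (T.hom ≫ D.v j)) (D.locFam j y k) a b h =
      D.φ (a ≫ T.hom) b ((Category.assoc _ _ _).trans h) (res a rfl (ptOf y)) := by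
  rw [ev, locFam]
  have e1 : pullback.lift a b h ≫ pullback.fst (T.hom ≫ D.v j) (D.v k) ≫ T.hom = a ≫ T.hom := by
    rw [← Category.assoc, pullback.lift_fst]
  have := D.φ_nat' (pullback.lift a b h) ((Category.assoc _ _ _).trans pullback.condition) e1 (pullback.lift_snd _ _ _)
    ((Category.assoc _ _ _).trans h) (res (pullback.fst (T.hom ≫ D.v j) (D.v k)) rfl (ptOf y))
  refine this.symm.trans ?_
  apply D.φ_congr rfl
  simp only [res_left]
  rw [← Category.assoc, pullback.lift_fst]

theorem compat_locFam (j : D.J) {T : Over (D.V j)} (y : T ⟶ D.E j) : D.Compat (Over.mk (T.hom ≫ D.v j)) (D.locFam j y) := by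
  intro k l R a b c hb hc
  rw [ev_locFam, ev_locFam, D.φ_comp]

/-- Points of `F` over `V j` are points of `E j`. -/
noncomputable def repLoc (j : D.J) : ((Over.map (D.v j)).op ⋙ D.F).RepresentableBy (D.E j) where
  homEquiv {T} := {
    toFun := fun y => (⟨D.locFam j y, D.compat_locFam j y⟩ :
      {x : ∀ k, Over.mk (pullback.snd (Over.mk (T.hom ≫ D.v j)).hom (D.v k)) ⟶ D.E k // D.Compat (Over.mk (T.hom ≫ D.v j)) x})
    invFun := fun x =>
      Over.homMk (D.ev (T := Over.mk (T.hom ≫ D.v j)) (x.1 j) (𝟙 _) T.hom (Category.id_comp _)).left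
        (Over.w (D.ev (T := Over.mk (T.hom ≫ D.v j)) (x.1 j) (𝟙 _) T.hom (Category.id_comp _)))
    left_inv := by
      intro y
      ext
      change (D.ev (T := Over.mk (T.hom ≫ D.v j)) (D.locFam j y j) (𝟙 _) T.hom (Category.id_comp _)).left = y.left
      rw [ev_locFam]
      have h1 := D.φ_congr (b := 𝟙 T.left ≫ T.hom) (b' := T.hom) (c := T.hom) (Category.id_comp _)
        ((Category.assoc _ _ _).trans (Category.id_comp _)) rfl (res (𝟙 T.left) rfl (ptOf y)) (ptOf y)
        ((res_left _ _ _).trans (Category.id_comp _))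
      refine (congrArg (fun z => z.left) h1).trans ?_
      rw [D.φ_self, ptOf_left]
    right_inv := by
      intro x
      let x' : {x : ∀ k, Over.mk (pullback.snd (Over.mk (T.hom ≫ D.v j)).hom (D.v k)) ⟶ D.E k //
        D.Compat (Over.mk (T.hom ≫ D.v j)) x} := x
      change _ = x'
      apply D.F_ext
      intro k R a b h
      dsimp only
      rw [ev_locFam]
      have h1 := x'.2 j k R a (a ≫ T.hom) b (Category.assoc _ _ _).symm h
      rw [← h1]
      apply D.φ_congr rfl
      rw [res_left, ptOf_left]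
      change a ≫ (D.ev (T := Over.mk (T.hom ≫ D.v j)) (x'.1 j) (𝟙 _) T.hom (Category.id_comp _)).left = _
      rw [← res_left a rfl, ev_res]
      congr 2 }
  homEquiv_comp {T T'} f g := by
    change (⟨D.locFam j (f ≫ g), D.compat_locFam j (f ≫ g)⟩ :
      {x : ∀ k, Over.mk (pullback.snd (Over.mk (T.hom ≫ D.v j)).hom (D.v k)) ⟶ D.E k // D.Compat (Over.mk (T.hom ≫ D.v j)) x}) =
      ⟨D.mapFam ((Over.map (D.v j)).map f) (D.locFam j g), _⟩
    apply D.F_ext
    intro k R a b h
    rw [ev_mapFam, ev_locFam]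
    refine Eq.trans ?_ (D.ev_locFam j g k (a ≫ f.left) b ?_).symm
    · apply D.φ_congr
      · rw [Category.assoc, Over.w]
      · simp [ptOf_left]
    · rw [Category.assoc, ← Category.assoc f.left, Over.w f]
      exact h

/-- **Étale gluing.** -/
theorem exists_rep (he : ∀ j, Etale (D.v j)) (hcov : ∀ s : S, ∃ j, s ∈ Set.range (D.v j)) (hV : ∀ j, IsAffine (D.V j))
    (hE : ∀ j, IsAffineHom (D.E j).hom) : ∃ A : Over S, Nonempty (D.F.RepresentableBy A) := by
  refine exists_representableBy_of_etale D.isEtSheaf_F fun s => ?_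
  obtain ⟨j, hj⟩ := hcov s
  refine ⟨D.V j, D.v j, he j, hj, D.E j, ⟨D.repLoc j⟩, fun U hU => ?_⟩
  have := hV j
  have := hE j
  have : IsAffine (D.E j).left := isAffine_of_isAffineHom (D.E j).hom
  have : CompactSpace U := isCompact_iff_compactSpace.1 hU
  exact Scheme.IsQuasiAffine.of_isImmersion U.ι

end Dat

end K208.EtGlue
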