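import Mathlib.LinearAlgebra.RootSystem.Hom
import Mathlib.LinearAlgebra.RootSystem.Finite.Nondegenerate
import Mathlib.LinearAlgebra.RootSystem.Reduced
import Mathlib.LinearAlgebra.Dual.Lemmas
import Mathlib.LinearAlgebra.FreeModule.PID
import Mathlib.Algebra.Module.PID

/-!
# The root datum on a subgroup of the character lattice containing the roots
-/

set_option autoImplicit false

open RootPairing

namespace K208.SubDatum

variable {ι M : Type*} [AddCommGroup M] [Module.Finite ℤ M] [Module.Free ℤ M] [Finite ι]
  (P : RootPairing ι ℤ M (Module.Dual ℤ M)) (N : AddSubgroup M)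

omit [Finite ι] in
theorem free_sub : Module.Free ℤ N :=
  inferInstanceAs (Module.Free ℤ (AddSubgroup.toIntSubmodule N))

omit [Module.Free ℤ M] [Finite ι] in
theorem finite_sub : Module.Finite ℤ N :=
  inferInstanceAs (Module.Finite ℤ (AddSubgroup.toIntSubmodule N))

/-- Restriction of a linear form. -/
noncomputable def rs (f : Module.Dual ℤ M) : Module.Dual ℤ N := f ∘ₗ N.subtype.toIntLinearMap

omit [Module.Finite ℤ M] [Module.Free ℤ M] [Finite ι] in
@[simp] theorem rs_apply (f : Module.Dual ℤ M) (n : N) : rs N f n = f n := rfl

variable {P N}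

omit [Module.Finite ℤ M] in
theorem rs_coroot_injective (hP : P.toLinearMap = Module.Dual.eval ℤ M) (hN : ∀ i, P.root i ∈ N) :
    Function.Injective fun i => rs N (P.coroot i) := by
  intro i j h
  have h1 := LinearMap.congr_fun h ⟨P.root i, hN i⟩
  have h2 := LinearMap.congr_fun h ⟨P.root j, hN j⟩
  simp only [rs_apply] at h1 h2
  have e : ∀ a b, P.coroot a (P.root b) = P.pairing b a := by
    intro a b
    change _ = P.toLinearMap (P.root b) (P.coroot a)
    rw [hP]
    rfl
  rw [e, e] at h1 h2
  rw [pairing_same] at h1 h2
  exact (P.pairing_two_two_iff i j).1 ⟨h1.symm, h2⟩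

/-- The root datum on `N`. -/
noncomputable def sub (hP : P.toLinearMap = Module.Dual.eval ℤ M) (hN : ∀ i, P.root i ∈ N) :
    RootPairing ι ℤ N (Module.Dual ℤ N) :=
  haveI := free_sub N
  haveI := finite_sub N
  { toLinearMap := Module.Dual.eval ℤ N
    isPerfPair_toLinearMap := inferInstance
    root := ⟨fun i => ⟨P.root i, hN i⟩, fun i j h => P.root.injective (congrArg Subtype.val h)⟩
    coroot := ⟨fun i => rs N (P.coroot i), rs_coroot_injective hP hN⟩
    root_coroot_two := fun i => by
      change P.coroot i (P.root i) = 2
      have := P.root_coroot_two i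
      rw [hP] at this
      exact this
    reflectionPerm := P.reflectionPerm
    reflectionPerm_root := fun i j => Subtype.ext (by
      have := P.reflectionPerm_root i j
      rw [hP] at this
      exact this)
    reflectionPerm_coroot := fun i j => by
      ext v
      have h := congrArg (fun c => c (v : M)) (P.reflectionPerm_coroot i j)
      rw [hP] at h
      exact h }

variable (hP : P.toLinearMap = Module.Dual.eval ℤ M) (hN : ∀ i, P.root i ∈ N)

theorem sub_toLinearMap : (sub hP hN).toLinearMap = Module.Dual.eval ℤ N := rfl

theorem sub_root (i : ι) : ((sub hP hN).root i : M) = P.root i := rfl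

theorem sub_coroot (i : ι) (n : N) : (sub hP hN).coroot i n = P.coroot i (n : M) := rfl

theorem sub_reflection (i : ι) (n : N) : ((sub hP hN).reflection i n : M) = P.reflection i (n : M) := by
  rw [RootPairing.reflection_apply, RootPairing.reflection_apply]
  have e1 : P.coroot' i (n : M) = P.coroot i (n : M) := by
    change P.toLinearMap (n : M) (P.coroot i) = _
    rw [hP]
    rfl
  rw [e1]
  rfl

end K208.SubDatum
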