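import Groth.Agent.RedSub.K208.QuotDS
import Groth.Agent.RedSub.K208.SubDatum
import Groth.Agent.RedSub.K197.DSExact
import Groth.Agent.RedSub.K197.QuotPts
import Groth.Agent.SGA3x.K7.DSProp
import Groth.Agent.SGA3x.K12.TrivKer
import Groth.Agent.Sga3B.TorClosed636
import Groth.Agent.Ega43.FPOfComp
import Groth.Agent.S2962
import Groth.Agent.S5237
import Groth.Agent.S8431
import Groth.Agent.AlgGrp.K397.Pre

/-!
# The quotient of a split reductive group by a central diagonalizable subgroup: the torus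

* `zN D N : D(M/N) ⟶ G`, closed immersion, central if `N` contains the roots.
* `isQuotient_pr` : `D(M) ⟶ D(N)` is the quotient by `D(M/N)`.
* `exists_torus` : the induced monomorphism `D(N) ⟶ G'`.
-/

set_option autoImplicit false
universe u

open CategoryTheory CategoryTheory.Limits MonoidalCategory CartesianMonoidalCategory MonObj GrpObj AlgebraicGeometry
  Opposite

namespace K208.QSplit

open K197 K197.Fppf Groth.Agent.Sga3B Groth.Agent.Sga3B.DSPts

section ds

variable (S : Scheme.{u}) {M : Type} [AddCommGroup M] [Module.Finite ℤ M] [Module.Free ℤ M] (N : AddSubgroup M)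

omit [Module.Finite ℤ M] [Module.Free ℤ M] in
variable (M) in
theorem ds_isAffineHom : IsAffineHom (Red.DS S M).hom :=
  MorphismProperty.pullback_snd _ _ (TorusAlgClosed.diag_isAffineHom M)

variable (M) in
theorem ds_smooth : Smooth (Red.DS S M).hom := MorphismProperty.pullback_snd _ _ (TorusAlgClosed.diag_smooth M)

theorem isCov_pr : IsCov (Red.DSmap S N.subtype) := by
  have h1 := K7.DSProp.flat_surjective_DSmap S N.subtype N.subtype_injective
  refine ⟨h1.2, h1.1, ?_⟩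
  have := SubDatum.free_sub N
  have := SubDatum.finite_sub N
  have h2 : LocallyOfFinitePresentation ((Red.DSmap S N.subtype).left ≫ (Red.DS S N).hom) := by
    rw [Over.w]
    have := ds_smooth S M
    infer_instance
  have := ds_smooth S N
  exact Groth.Agent.Ega43.FPOfComp.locallyOfFinitePresentation_of_comp _ (Red.DS S N).hom

instance : IsMonHom (Red.DSmap S N.subtype) := AdCentre.isMonHom_DSmap _

instance : IsMonHom (Red.DSmap S (QuotientAddGroup.mk' N)) := AdCentre.isMonHom_DSmap _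

instance : Mono (Red.DSmap S (QuotientAddGroup.mk' N)) :=
  AdCentre.mono_DSmap _ (QuotientAddGroup.mk'_surjective _)

theorem mk_pr : Red.DSmap S (QuotientAddGroup.mk' N) ≫ Red.DSmap S N.subtype = 1 := by
  rw [BorSpan613.DSmap_comp_DSmap]
  exact DSExact.DSmap_eq_one _ fun m => (QuotientAddGroup.eq_zero_iff _).2 m.2

theorem inv_comp_of {C : Type*} [Category C] [CartesianMonoidalCategory C] {G H : C} [GrpObj G] [GrpObj H] (f : G ⟶ H)
    {X : C} (h : ∀ x y : X ⟶ G, (x * y) ≫ f = (x ≫ f) * (y ≫ f)) (x : X ⟶ G) : x⁻¹ ≫ f = (x ≫ f)⁻¹ := by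
  have h1 : (1 : X ⟶ G) ≫ f = 1 := by
    have := h 1 1
    rw [_root_.mul_one] at this
    exact (mul_eq_left.mp this.symm)
  rw [eq_inv_iff_mul_eq_one, ← h, inv_mul_cancel, h1]

theorem inv_comp_DSmap {S : Scheme.{u}} {N M : Type} [AddCommGroup N] [AddCommGroup M] (φ : N →+ M)
    {X : Over S} (x : X ⟶ Red.DS S M) : x⁻¹ ≫ Red.DSmap S φ = (x ≫ Red.DSmap S φ)⁻¹ :=
  inv_comp_of _ (Isog.mul_comp_DSmap φ) x

theorem isQuotient_pr : RedSub.IsQuotient (Red.DSmap S (QuotientAddGroup.mk' N)) (Red.DSmap S N.subtype) := by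
  refine QuotPts.isQuotient_of_pts (isCov_pr S N) ?_ ?_
  · intro T g h
    rw [Isog.mul_comp_DSmap, Category.assoc, mk_pr, MonObj.comp_one, _root_.mul_one]
  · intro T g g' h
    obtain ⟨z, hz⟩ := DSExact.exists_lift N.subtype (QuotientAddGroup.mk' N) (QuotientAddGroup.mk'_surjective _)
      (fun m hm => ⟨⟨m, (QuotientAddGroup.eq_zero_iff _).1 hm⟩, rfl⟩) (g⁻¹ * g') (by
        rw [Isog.mul_comp_DSmap, inv_comp_DSmap, h, inv_mul_cancel])
    exact ⟨z, by rw [hz, mul_inv_cancel_left]⟩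

end ds

section abs

variable {S : Scheme.{u}} {T T' Z G G' : Over S} [GrpObj T] [GrpObj T'] [GrpObj Z] [GrpObj G] [GrpObj G']
  (ζ : Z ⟶ T) [IsMonHom ζ] [Mono ζ] (pr : T ⟶ T') [IsMonHom pr] (hpr : RedSub.IsQuotient ζ pr)
  (i : T ⟶ G) [IsMonHom i] [Mono i] (q : G ⟶ G') [IsMonHom q] (hq : RedSub.IsQuotient (ζ ≫ i) q)

include hpr hq in
/-- The induced map on the quotient torus. -/
theorem exists_torus (hn : AlgGrp.IsNormalHom ζ) : ∃ i' : T' ⟶ G', IsMonHom i' ∧ Mono i' ∧ pr ≫ i' = i ≫ q := by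
  obtain ⟨i', ⟨h1, h2⟩, -⟩ := Groth.Agent.S5237.result ζ hn pr hpr (i ≫ q) (by
    have := (QuotPts.comp_eq_one_iff_of_isMonHom hq (ζ ≫ i)).2 ⟨𝟙 _, Category.id_comp _⟩
    rw [← Category.assoc, this])
  refine ⟨i', h2, ?_, h1⟩
  apply K12.TrivKer.mono_of_ker
  intro X x hx
  obtain ⟨X', c, t, hc, ht⟩ := exists_lift_local (QuotPts.isCov hpr) x
  have h3 : (t ≫ i) ≫ q = 1 := by
    rw [Category.assoc, ← h1, ← Category.assoc, ht, Category.assoc, hx, MonObj.comp_one]
  obtain ⟨z, hz⟩ := (QuotPts.comp_eq_one_iff_of_isMonHom hq _).1 h3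
  have h4 : z ≫ ζ = t := by
    rw [← cancel_mono i, Category.assoc, hz]
  have h5 : t ≫ pr = 1 := (QuotPts.comp_eq_one_iff_of_isMonHom hpr _).2 ⟨z, h4⟩
  apply Fppf.hom_ext hc
  rw [← ht, h5, MonObj.comp_one]

end abs

section field

variable {K : Type u} [Field K] {T T' Z G G' : Over (Spec (CommRingCat.of K))} [GrpObj T] [GrpObj T'] [GrpObj Z]
  [GrpObj G] [GrpObj G']
  (ζ : Z ⟶ T) [IsMonHom ζ] (pr : T ⟶ T')
  (i : T ⟶ G) [IsMonHom i] (q : G ⟶ G') [IsMonHom q] (hq : RedSub.IsQuotient (ζ ≫ i) q)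
  (i' : T' ⟶ G') [Mono i'] (hi' : pr ≫ i' = i ≫ q)

include hq hi' in
/-- Maximality of the quotient torus. -/
theorem isIso_of_torus [Mono (ζ ≫ i)] [IsAffineHom G.hom] [IsSeparated G'.hom]
    (hcen : ∀ (X : Over (Spec (CommRingCat.of K))) (g : X ⟶ G),
      (∀ (X' : Over (Spec (CommRingCat.of K))) (x : X' ⟶ X) (h : X' ⟶ T), (x ≫ g) * (h ≫ i) = (h ≫ i) * (x ≫ g)) →
        ∃ t : X ⟶ T, t ≫ i = g)
    (hz : ∀ (X : Over (Spec (CommRingCat.of K))) (x : X ⟶ Z) (g : X ⟶ G), (x ≫ ζ ≫ i) * g = g * (x ≫ ζ ≫ i))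
    (T'' : Over (Spec (CommRingCat.of K))) [GrpObj T''] (j : T'' ⟶ G') [IsMonHom j] [Mono j] (f : T' ⟶ T'')
    (hT : Red.IsTorus T'') (hf : f ≫ j = i') : IsIso f := by
  obtain ⟨E, _, e, p, he, hp, hpb⟩ := K397.Pre.exists_preimage q j
  have hcq := QuotPts.isCov hq
  have hcp : IsCov p := IsCov.of_isPullback hpb hcq
  have hme : Mono e := by
    constructor
    intro X a b hab
    apply hpb.hom_ext hab
    rw [← cancel_mono j, Category.assoc, Category.assoc, ← hpb.w, ← Category.assoc, hab, Category.assoc]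
  -- `Z` in `E`
  have hz1 : (ζ ≫ i) ≫ q = 1 ≫ j := by
    rw [MonObj.one_comp]
    exact (QuotPts.comp_eq_one_iff_of_isMonHom hq (ζ ≫ i)).2 ⟨𝟙 _, Category.id_comp _⟩
  let z' : Z ⟶ E := hpb.lift (ζ ≫ i) 1 hz1
  have hz' : z' ≫ e = ζ ≫ i := hpb.lift_fst _ _ _
  have hz'm : Mono z' := by
    have : Mono (z' ≫ e) := by rw [hz']; infer_instance
    exact mono_of_mono z' e
  have hz'h : IsMonHom z' := by
    apply Pts.isMonHom_of_points
    intro X x y
    rw [← cancel_mono e, Category.assoc, hz', mul_comp, mul_comp, Category.assoc, Category.assoc, hz']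
  have hqq : QuasiCompact q.left := by
    have : QuasiCompact (q.left ≫ G'.hom) := by rw [Over.w]; infer_instance
    exact QuasiCompact.of_comp q.left G'.hom
  have hpq : QuasiCompact p.left := MorphismProperty.of_isPullback (P := @QuasiCompact) (hpb.map (Over.forget _)) hqq
  have hTa := TorusAlgClosed.isAffineHom_of_isTorus hT
  have hTs := TorusAlgClosed.smooth_of_isTorus hT
  have hpl := hcp.lfp
  have hEq : QuasiCompact E.hom := by rw [← Over.w p]; infer_instance
  have hEf : LocallyOfFiniteType E.hom := by rw [← Over.w p]; infer_instance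
  have hcomm := Groth.Agent.S8431.result K E Z z' (by
    intro X x g
    rw [← cancel_mono e, mul_comp, mul_comp, Category.assoc, hz', hz]) T'' p
    (QuotPts.isQuotient_of_pts hcp (by
      intro X g h
      rw [mul_comp, Category.assoc, hpb.lift_snd, MonObj.comp_one, _root_.mul_one]) (by
      intro X g g' hgg
      obtain ⟨h, hh⟩ := QuotPts.exists_of_eq hq (g ≫ e) (g' ≫ e) (by
        rw [Category.assoc, Category.assoc, hpb.w, ← Category.assoc, hgg, Category.assoc])
      refine ⟨h, ?_⟩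
      rw [← cancel_mono e, mul_comp, Category.assoc, hz', hh])) hT
  -- local lifts
  obtain ⟨X', c, e', hc, he'⟩ := exists_lift_local hcp (𝟙 T'')
  rw [Category.comp_id] at he'
  obtain ⟨t₀, ht₀⟩ := hcen X' (e' ≫ e) (by
    intro X'' x t
    have h1 : (t ≫ i) ≫ q = (t ≫ pr ≫ f) ≫ j := by
      rw [Category.assoc, ← hi', Category.assoc, Category.assoc, hf]
    have h2 : hpb.lift _ _ h1 ≫ e = t ≫ i := hpb.lift_fst _ _ _
    rw [← h2, ← Category.assoc, ← mul_comp, ← mul_comp, hcomm])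
  have h3 : (t₀ ≫ pr) ≫ f = c := by
    rw [← cancel_mono j, Category.assoc, hf, Category.assoc, hi', ← Category.assoc, ht₀, ← he', Category.assoc,
      Category.assoc, hpb.w]
  have hfm : Mono f := by
    have : Mono (f ≫ j) := by rw [hf]; infer_instance
    exact mono_of_mono f j
  obtain ⟨l, hl⟩ := exists_desc_mono hc f (𝟙 T'') (t₀ ≫ pr) (by rw [h3, Category.comp_id])
  refine ⟨l, ?_, hl⟩
  rw [← cancel_mono f, Category.assoc, hl, Category.id_comp, Category.comp_id]

end field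

section max

variable {S : Scheme.{u}} {T T' Z G G' : Over S} [GrpObj T] [GrpObj T'] [GrpObj Z] [GrpObj G] [GrpObj G']

/-- central homomorphisms are stable under base change -/
theorem central_bc {S' : Scheme.{u}} (f : S' ⟶ S) (z : Z ⟶ G)
    (hz : ∀ (X : Over S) (x : X ⟶ Z) (g : X ⟶ G), (x ≫ z) * g = g * (x ≫ z))
    (X : Over S') (x : X ⟶ Red.bc f Z) (g : X ⟶ Red.bc f G) :
    (x ≫ (Over.pullback f).map z) * g = g * (x ≫ (Over.pullback f).map z) := by
  obtain ⟨x, rfl⟩ := (BcPts.bcEquiv f X Z).surjective x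
  obtain ⟨g, rfl⟩ := (BcPts.bcEquiv f X G).surjective g
  rw [← BcPts.bcEquiv_comp, ← BcPts.bcEquiv_mul, ← BcPts.bcEquiv_mul, hz]

theorem isMaximalTorus_quot (ζ : Z ⟶ T) [IsMonHom ζ] [Mono ζ] (pr : T ⟶ T') [IsMonHom pr]
    (i : T ⟶ G) [IsMonHom i] [Mono i] (q : G ⟶ G') [IsMonHom q] (hq : RedSub.IsQuotient (ζ ≫ i) q)
    (i' : T' ⟶ G') [IsMonHom i'] [Mono i'] (hi' : pr ≫ i' = i ≫ q)
    (hG : Red.IsReductive G) (hi : Red.IsMaximalTorus i) (hT' : Red.IsTorus T') (hG' : IsAffineHom G'.hom)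
    (hz : ∀ (X : Over S) (x : X ⟶ Z) (g : X ⟶ G), (x ≫ ζ ≫ i) * g = g * (x ≫ ζ ≫ i)) : Red.IsMaximalTorus i' := by
  refine ⟨inferInstance, inferInstance, hT', fun s T'' _ j _ _ f hT'' hf => ?_⟩
  let v := Red.geomPt s
  have hGa := hG.1
  have e1 : (Over.pullback v).map ζ ≫ (Over.pullback v).map i = (Over.pullback v).map (ζ ≫ i) :=
    ((Over.pullback v).map_comp _ _).symm
  have hm : Mono (ζ ≫ i) := inferInstance
  have hq' := Groth.Agent.RedSub.H650.QuotPts.isQuotient_bc v hq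
  rw [← e1] at hq'
  have hm' : Mono ((Over.pullback v).map ζ ≫ (Over.pullback v).map i) := by rw [e1]; infer_instance
  have a1 : IsAffineHom (Red.bc v G).hom := MorphismProperty.pullback_snd (P := @IsAffineHom) _ _ hGa
  have a2 : IsAffineHom (Red.bc v G').hom := MorphismProperty.pullback_snd (P := @IsAffineHom) _ _ hG'
  refine isIso_of_torus ((Over.pullback v).map ζ) ((Over.pullback v).map pr) ((Over.pullback v).map i)
    ((Over.pullback v).map q) hq' ((Over.pullback v).map i') ?_ ?_ ?_ T'' j f hT'' hf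
  · rw [← Functor.map_comp, ← Functor.map_comp, hi']
  · exact MaxTorBc636.selfC_geomFibre hG hi s
  · intro X x g
    have := central_bc v (ζ ≫ i) hz X x g
    rw [e1]
    exact this

end max

end K208.QSplit
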