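import Groth.Agent.RedSub.K208.QSplit1
import Groth.Agent.AbVar.K517.Img
import Groth.Agent.Sga3.H816.TorusDim
import Groth.Agent.Sga3B.Trans894
import Groth.Agent.S14762

/-!
# The quotient of a split reductive group by a central diagonalizable subgroup: reductivity and dimension
-/

set_option autoImplicit false
universe u

open CategoryTheory CategoryTheory.Limits MonoidalCategory CartesianMonoidalCategory MonObj GrpObj AlgebraicGeometry
  Opposite

namespace K208.QSplit

open K197 K197.Fppf Groth.Agent.Sga3B Groth.Agent.Sga3B.DSPts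

theorem isKernel_of_isQuotient {S : Scheme.{u}} {Z G Q : Over S} [GrpObj Z] [GrpObj G] [GrpObj Q] {z : Z ⟶ G} [Mono z]
    {q : G ⟶ Q} [IsMonHom q] (hq : RedSub.IsQuotient z q) : AlgGrp.IsKernel z q := by
  refine QuotPts.isPullback_of_pts ?_ ?_ ?_
  · have := (QuotPts.comp_eq_one_iff_of_isMonHom hq z).2 ⟨𝟙 _, Category.id_comp _⟩
    rw [this]
    rfl
  · intro X x y hxy
    have h1 : x ≫ q = 1 := by
      rw [hxy, Subsingleton.elim y (toUnit X)]
      rfl
    obtain ⟨a, ha⟩ := (QuotPts.comp_eq_one_iff_of_isMonHom hq x).1 h1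
    exact ⟨a, ha, Subsingleton.elim _ _⟩
  · intro X a a' h1 _
    exact (cancel_mono z).1 h1

variable {S : Scheme.{u}} {Z G G' : Over S} [GrpObj Z] [GrpObj G] [GrpObj G']

/-- The quotient of a reductive group by a normal subgroup is reductive. -/
theorem isReductive_quot (z : Z ⟶ G) [Mono z] (q : G ⟶ G') [IsMonHom q] (hq : RedSub.IsQuotient z q)
    (hG : Red.IsReductive G) (hG' : IsAffineHom G'.hom) (hs : Smooth G'.hom) : Red.IsReductive G' := by
  refine ⟨hG', hs, fun s => ?_⟩
  have hq' := Groth.Agent.RedSub.H650.QuotPts.isQuotient_bc (Red.geomPt s) hq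
  have a1 : IsAffineHom (Red.geomFibre s G').hom := MorphismProperty.pullback_snd (P := @IsAffineHom) _ _ hG'
  have a2 : Smooth (Red.geomFibre s G').hom := MorphismProperty.pullback_snd (P := @Smooth) _ _ hs
  have a3 := hq'.1
  have a4 := hq'.2.1
  exact Groth.Agent.S14762.result _ (Red.geomFibre s G) (Red.geomFibre s G') (hG.2.2 s) ((Over.pullback (Red.geomPt s)).map q)

theorem dim_ds (s : S) (M : Type) [AddCommGroup M] [Module.Free ℤ M] [Module.Finite ℤ M] :
    topologicalKrullDim ↥(Red.geomFibre s (Red.DS S M)).left = ((Module.finrank ℤ M : ℕ) : WithBot ℕ∞) := by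
  refine Groth.Agent.Sga3.H816.TorusDim.topologicalKrullDim_of_split ⟨TorusAlgClosed.dsBcIso _ M ≪≫
    (Trans894.DSiso _ (Module.finBasis ℤ M).equivFun.toAddEquiv).symm⟩

/-- Dimensions of the fibres of a quotient. -/
theorem dim_quot (z : Z ⟶ G) [Mono z] (q : G ⟶ G') [IsMonHom q] (hq : RedSub.IsQuotient z q)
    (h1 : LocallyOfFiniteType G.hom) (h2 : LocallyOfFiniteType G'.hom) (h3 : QuasiCompact G.hom) (h4 : IsSeparated G'.hom)
    (s : S) : topologicalKrullDim ↥(Red.geomFibre s G).left =
      topologicalKrullDim ↥(Red.geomFibre s G').left + topologicalKrullDim ↥(Red.geomFibre s Z).left := by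
  have hq' := Groth.Agent.RedSub.H650.QuotPts.isQuotient_bc (Red.geomPt s) hq
  have a1 : LocallyOfFiniteType (Red.geomFibre s G).hom := MorphismProperty.pullback_snd (P := @LocallyOfFiniteType) _ _ h1
  have a2 : LocallyOfFiniteType (Red.geomFibre s G').hom := MorphismProperty.pullback_snd (P := @LocallyOfFiniteType) _ _ h2
  have a3 : QuasiCompact (Red.geomFibre s G).hom := MorphismProperty.pullback_snd (P := @QuasiCompact) _ _ h3
  have a4 : IsSeparated (Red.geomFibre s G').hom := MorphismProperty.pullback_snd (P := @IsSeparated) _ _ h4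
  have a5 := hq'.1
  have a6 : QuasiCompact ((Over.pullback (Red.geomPt s)).map q).left := by
    have : QuasiCompact (((Over.pullback (Red.geomPt s)).map q).left ≫ (Red.geomFibre s G').hom) := by
      have e : ((Over.pullback (Red.geomPt s)).map q).left ≫ (Red.geomFibre s G').hom = (Red.geomFibre s G).hom :=
        Over.w ((Over.pullback (Red.geomPt s)).map q)
      rw [e]
      exact a3
    exact QuasiCompact.of_comp _ (Red.geomFibre s G').hom
  exact K517.Img.dim_eq ((Over.pullback (Red.geomPt s)).map q) ((Over.pullback (Red.geomPt s)).map z)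
    (isKernel_of_isQuotient hq')

end K208.QSplit
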