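import Groth.Agent.RedSub.K208.QSplit2
import Groth.Agent.RedSub.K195.PartBorel
import Groth.Agent.Red.K214.DatumChev
import Groth.Agent.SGA3x.K19.TorQuot
import Groth.Agent.Sga3B.SplitRedField415

/-!
# The quotient of a split reductive group by a central diagonalizable subgroup: the splitting
-/

set_option autoImplicit false
universe u

open CategoryTheory CategoryTheory.Limits MonoidalCategory CartesianMonoidalCategory MonObj GrpObj AlgebraicGeometry
  Opposite

namespace K208.QSplit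

open K197 K197.Fppf Groth.Agent.Sga3B Groth.Agent.Sga3B.DSPts

variable {S : Scheme.{u}} {G G' : Over S} [GrpObj G] [GrpObj G'] (D : Red.SplitRed G) (N : AddSubgroup D.M)

/-- `(t, x) ↦ t u_a(x)` is a closed immersion. -/
theorem isClosedImmersion_tu (a : D.idx) :
    IsClosedImmersion ((fst D.T (Red.Ga S) ≫ D.i) * (snd D.T (Red.Ga S) ≫ D.u a)).left := by
  by_cases hS : IsEmpty S
  · have hGe : IsEmpty G.left := ⟨fun x => hS.elim (G.hom x)⟩
    have := isIso_of_isEmpty (((fst D.T (Red.Ga S) ≫ D.i) * (snd D.T (Red.Ga S) ≫ D.u a)).left)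
    infer_instance
  · have hS' : Nonempty S := not_isEmpty_iff.1 hS
    have hred : D.P.IsReduced := SplitReduced415.isReduced D
    obtain ⟨b⟩ := BaseZ.nonempty_base D.P
    obtain ⟨b', hb'⟩ := K214.DatumChev.exists_base_mem b a
    have h := K195.PartBorel.isClosedImmersion_borelMap D b' (fun _ : Fin 1 => a)
      (fun _ _ _ => Subsingleton.elim _ _) (fun _ => AddSubmonoid.subset_closure ⟨a, hb', rfl⟩)
    let j : Red.Ga S ⟶ RedSub.pow (Red.Ga S) 1 := lift (𝟙 _) (toUnit _)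
    let p : RedSub.pow (Red.Ga S) 1 ⟶ Red.Ga S := fst (Red.Ga S) (𝟙_ (Over S))
    have hjp : j ≫ p = 𝟙 _ := lift_fst _ _
    have hpj : p ≫ j = 𝟙 _ := by
      refine CartesianMonoidalCategory.hom_ext (X := Red.Ga S) (Y := 𝟙_ (Over S)) _ _ ?_ (Subsingleton.elim _ _)
      change (p ≫ lift (𝟙 _) (toUnit _)) ≫ fst (Red.Ga S) (𝟙_ (Over S)) = 𝟙 _ ≫ fst (Red.Ga S) (𝟙_ (Over S))
      rw [Category.assoc, lift_fst, Category.comp_id, Category.id_comp]
    have hju : j ≫ RedSub.prodMap (Red.Ga S) 1 (fun _ => D.u a) = D.u a := by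
      change lift (𝟙 _) (toUnit _) ≫ ((fst (Red.Ga S) (𝟙_ (Over S)) ≫ D.u a) * (snd (Red.Ga S) (𝟙_ (Over S)) ≫
        (1 : 𝟙_ (Over S) ⟶ G))) = _
      rw [MonObj.comp_mul, lift_fst_assoc, Category.id_comp, MonObj.comp_one, MonObj.comp_one, _root_.mul_one]
    let e : D.T ⊗ Red.Ga S ≅ D.T ⊗ RedSub.pow (Red.Ga S) 1 := {
      hom := D.T ◁ j
      inv := D.T ◁ p
      hom_inv_id := by rw [← whiskerLeft_comp, hjp, whiskerLeft_id]
      inv_hom_id := by rw [← whiskerLeft_comp, hpj, whiskerLeft_id] }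
    have h2 : (fst D.T (Red.Ga S) ≫ D.i) * (snd D.T (Red.Ga S) ≫ D.u a) =
        e.hom ≫ RedSub.borelMap D (fun _ : Fin 1 => a) := by
      change _ = (D.T ◁ j) ≫ ((fst _ _ ≫ D.i) * (snd _ _ ≫ RedSub.prodMap (Red.Ga S) 1 (fun _ => D.u a)))
      rw [MonObj.comp_mul, whiskerLeft_fst_assoc, whiskerLeft_snd_assoc, hju]
    rw [h2, Over.comp_left]
    have : IsIso e.hom.left := ((Over.forget _).mapIso e).isIso_hom
    infer_instance

/-- The quotient of a root group is a closed immersion. -/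
theorem isClosedImmersion_uq {Z : Over S} [GrpObj Z] (ζ : Z ⟶ D.T) [IsMonHom ζ] (hζ : IsClosedImmersion ζ.left)
    (q : G ⟶ G') [IsMonHom q] (hq : RedSub.IsQuotient (ζ ≫ D.i) q)
    (hz : ∀ (X : Over S) (x : X ⟶ Z) (g : X ⟶ G), (x ≫ ζ ≫ D.i) * g = g * (x ≫ ζ ≫ D.i)) (a : D.idx) :
    IsClosedImmersion (D.u a ≫ q).left := by
  have hi : Mono D.i := D.maximalTorus.2.1
  have hih : IsMonHom D.i := D.maximalTorus.1
  have huh : IsMonHom (D.u a) := (D.rootHom a).1
  have hζm : Mono ζ.left := inferInstance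
  have hζm' : Mono ζ := Over.mono_of_mono_left ζ
  let m : Z ⊗ Red.Ga S ⟶ G := (ζ ▷ Red.Ga S) ≫ ((fst D.T (Red.Ga S) ≫ D.i) * (snd D.T (Red.Ga S) ≫ D.u a))
  have hm : ∀ (X : Over S) (z : X ⟶ Z) (x : X ⟶ Red.Ga S), lift z x ≫ m = (z ≫ ζ ≫ D.i) * (x ≫ D.u a) := by
    intro X z x
    simp only [m]
    rw [← Category.assoc, lift_whiskerRight, MonObj.comp_mul, lift_fst_assoc, lift_snd_assoc, Category.assoc]
  have hpb : IsPullback m (snd Z (Red.Ga S)) q (D.u a ≫ q) := by
    refine QuotPts.isPullback_of_pts ?_ ?_ ?_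
    · have h1 := hm _ (fst Z (Red.Ga S)) (snd Z (Red.Ga S))
      rw [lift_fst_snd, Category.id_comp] at h1
      rw [h1, hz, QuotPts.mul_comp_eq hq, Category.assoc]
    · intro X g x hgx
      obtain ⟨h, hh⟩ := QuotPts.exists_of_eq hq (x ≫ D.u a) g (by rw [Category.assoc, hgx])
      refine ⟨lift h x, ?_, lift_snd _ _⟩
      rw [hm, hz, hh]
    · intro X b b' h1 h2
      have e : ∀ b : X ⟶ Z ⊗ Red.Ga S, b = lift (b ≫ fst _ _) (b ≫ snd _ _) := fun b => by
        rw [← comp_lift, lift_fst_snd, Category.comp_id]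
      rw [e b, e b', hm, hm, h2] at h1
      have h3 := mul_right_cancel h1
      rw [← Category.assoc, ← Category.assoc] at h3
      have h4 := (cancel_mono ζ).1 ((cancel_mono D.i).1 h3)
      rw [e b, e b', h2, h4]
  have h1 : IsClosedImmersion (ζ ▷ Red.Ga S).left := by
    have h2 : IsPullback (ζ ▷ Red.Ga S) (fst Z (Red.Ga S)) (fst D.T (Red.Ga S)) ζ := by
      refine QuotPts.isPullback_of_pts ?_ ?_ ?_
      · rw [whiskerRight_fst]
      · intro X x y hxy
        refine ⟨lift y (x ≫ snd _ _), ?_, lift_fst _ _⟩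
        rw [lift_whiskerRight, ← hxy, ← comp_lift, lift_fst_snd, Category.comp_id]
      · intro X b b' h3 h4
        apply CartesianMonoidalCategory.hom_ext
        · exact h4
        · have := congrArg (fun z => z ≫ snd _ _) h3
          simpa using this
    exact MorphismProperty.of_isPullback (P := @IsClosedImmersion) (h2.map (Over.forget S)).flip hζ
  have h2 : IsClosedImmersion m.left := by
    have := isClosedImmersion_tu D a
    rw [show m.left = (ζ ▷ Red.Ga S).left ≫ ((fst D.T (Red.Ga S) ≫ D.i) * (snd D.T (Red.Ga S) ≫ D.u a)).left from rfl]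
    infer_instance
  have hpb' : IsPullback m.left (snd Z (Red.Ga S)).left q.left (D.u a ≫ q).left := hpb.map (Over.forget S)
  exact MorphismProperty.of_isPullback_of_descendsAlong (P := @IsClosedImmersion)
    (Q := @Surjective ⊓ @Flat ⊓ @LocallyOfFinitePresentation) hpb' ⟨⟨hq.1, hq.2.1⟩, hq.2.2.1⟩ h2

end K208.QSplit
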