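import Groth.Agent.RedSub.K208.QuotGlue
import Groth.Agent.Sga3B.AdQuot
import Groth.Agent.Sga3B.TorusAlgClosed
import Groth.Agent.S5236

/-!
# The quotient of an affine smooth group scheme by a central diagonalizable subgroup
-/

set_option autoImplicit false
universe u

open CategoryTheory CategoryTheory.Limits MonoidalCategory CartesianMonoidalCategory MonObj GrpObj AlgebraicGeometry
  Opposite

namespace K208.QuotDS

open Groth.Agent.RedSub.H654.PtBc K208.EtGlue K208.QuotGlue K197 K197.Fppf Groth.Agent.Sga3B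

variable {S : Scheme.{u}} {G Z : Over S} [GrpObj G] [GrpObj Z] (z : Z ⟶ G)

theorem isLoc_of_isQuot {V : Scheme.{u}} (v : V ⟶ S) {Q : Over V} {q : Red.bc v G ⟶ Q}
    (h : AdQuot.IsQuot ((Over.pullback v).map z) q) : IsLoc z v q where
  cov := ⟨h.surj, h.flat, h.lfp⟩
  agree {R a b} hb g g' := by
    rw [h.agree (Over.mk b) (up hb g) (up hb g')]
    constructor
    · rintro ⟨t, ht⟩
      refine ⟨dn hb t, ?_⟩
      apply up_injective hb
      rw [ht, up_mul, ← up_comp, up_dn]
    · rintro ⟨t, rfl⟩
      exact ⟨up hb t, by rw [up_mul, up_comp]⟩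

/-- **The quotient of a smooth affine group by a diagonalizable subgroup**, over an arbitrary base. -/
theorem exists_quotient [IsMonHom z] (hG : IsAffineHom G.hom) (hsm : Smooth G.hom) (hz : IsClosedImmersion z.left)
    (N : Type) [AddCommGroup N] (e : Grp.mk Z ≅ Grp.mk (Red.DS S N)) :
    ∃ (Q : Over S) (q : G ⟶ Q), IsAffineHom Q.hom ∧ Smooth Q.hom ∧ RedSub.IsQuotient z q := by
  have hmz : Mono z.left := inferInstance
  have hm : Mono z := Over.mono_of_mono_left z
  have key : ∀ j : S.affineOpenCover.I₀, ∃ (Q : Over (Spec (S.affineOpenCover.X j)))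
      (q : Red.bc (S.affineOpenCover.f j) G ⟶ Q), IsLoc z (S.affineOpenCover.f j) q ∧ IsAffineHom Q.hom := by
    intro j
    let R : Type u := S.affineOpenCover.X j
    let v : Spec (CommRingCat.of R) ⟶ S := S.affineOpenCover.f j
    have h1 : IsAffineHom (Red.bc v G).hom := by
      change IsAffineHom (pullback.snd G.hom v)
      infer_instance
    have h2 : Smooth (Red.bc v G).hom := by
      change Smooth (pullback.snd G.hom v)
      infer_instance
    have h3 : IsClosedImmersion ((Over.pullback v).map z).left :=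
      MorphismProperty.of_isPullback (P := @IsClosedImmersion)
        (Groth.Agent.RedSub.H654.QuotDesc.isPullback_map v z).flip hz
    obtain ⟨Q, q, hq, hQ, -⟩ := AdQuot.exists_quot R (Red.bc v G) (Red.bc v Z) h1 h2 ((Over.pullback v).map z) h3 N
      ⟨(Over.pullback v).mapGrp.mapIso e ≪≫ TorusAlgClosed.dsBcIso v N⟩
    exact ⟨Q, q, isLoc_of_isQuot z v hq, hQ⟩
  choose Q q hq hQ using key
  obtain ⟨A, p, hA, hp, -⟩ := QuotGlue.exists_quotient z (fun j => Spec (S.affineOpenCover.X j)) S.affineOpenCover.f
    Q q hq (fun j => inferInstance) (fun s => ⟨_, S.affineOpenCover.covers s⟩) (fun j => inferInstance) hQ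
  refine ⟨A, p, hA, ?_, hp⟩
  have := hp.1
  have := hp.2.1
  have := hp.2.2.1
  have h1 : Smooth (p.left ≫ A.hom) := by
    rw [Over.w]
    exact hsm
  exact Groth.Agent.S0115.result p.left A.hom

end K208.QuotDS
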