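import Groth.Agent.RedSub.K208.EtGlueGrp
import Groth.Agent.RedSub.K197.QuotPts
import Groth.Agent.RedSub.K197.Isog
import Groth.Agent.RedSub.H654.QuotDesc

/-!
# Étale gluing of quotients

If the quotient of a group `G` over `S` by a subgroup `Z` exists, affine, after the étale maps `v j : V j ⟶ S` covering
`S`, then it exists over `S` and is affine over `S`.
-/

set_option autoImplicit false
universe u

open CategoryTheory CategoryTheory.Limits MonoidalCategory CartesianMonoidalCategory MonObj GrpObj AlgebraicGeometry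
  Opposite

namespace K208.QuotGlue

open Groth.Agent.RedSub.H654.PtBc K208.EtGlue K197 K197.Fppf

variable {S : Scheme.{u}} {G Z : Over S} [GrpObj G] (z : Z ⟶ G)

/-- A local quotient, on points. -/
structure IsLoc {V : Scheme.{u}} (v : V ⟶ S) {Q : Over V} (q : Red.bc v G ⟶ Q) : Prop where
  cov : IsCov q
  agree : ∀ {R : Scheme.{u}} {a : R ⟶ S} {b : R ⟶ V} (h : b ≫ v = a) (g g' : Over.mk a ⟶ G),
    up h g ≫ q = up h g' ≫ q ↔ ∃ t : Over.mk a ⟶ Z, g' = g * (t ≫ z)

section rel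

variable {V W : Scheme.{u}} {v : V ⟶ S} {w : W ⟶ S} {Q : Over V} {q : Red.bc v G ⟶ Q} {Q' : Over W} {q' : Red.bc w G ⟶ Q'}

theorem up_res {X : Over S} {R R' : Scheme.{u}} (r : R' ⟶ R) {a : R ⟶ S} {a' : R' ⟶ S} (ha : r ≫ a = a')
    {b : R ⟶ V} {b' : R' ⟶ V} (hb : r ≫ b = b') (h : b ≫ v = a) (h' : b' ≫ v = a') (g : Over.mk a ⟶ X) :
    up h' (res r ha g) = res r hb (up h g) :=
  (comp_up h h' (Over.homMk r ha) (Over.homMk r hb) rfl g).symm

/-- The relation between points of two local quotients. -/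
def Rel (q : Red.bc v G ⟶ Q) (q' : Red.bc w G ⟶ Q') {R : Scheme.{u}} {a : R ⟶ S} {b : R ⟶ V} {c : R ⟶ W}
    (_ : b ≫ v = a) (_ : c ≫ w = a) (x : Over.mk b ⟶ Q) (y : Over.mk c ⟶ Q') : Prop :=
  ∀ (R' : Scheme.{u}) (r : R' ⟶ R) (a' : R' ⟶ S) (b' : R' ⟶ V) (c' : R' ⟶ W) (_ : r ≫ a = a') (hb' : r ≫ b = b')
    (hc' : r ≫ c = c') (h : b' ≫ v = a') (h' : c' ≫ w = a') (g : Over.mk a' ⟶ G),
    up h g ≫ q = res r hb' x → up h' g ≫ q' = res r hc' y

variable {R : Scheme.{u}} {a : R ⟶ S} {b : R ⟶ V} {c : R ⟶ W} (hb : b ≫ v = a) (hc : c ≫ w = a)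

include hb hc in
omit [GrpObj G] in
theorem Rel.restr {x : Over.mk b ⟶ Q} {y : Over.mk c ⟶ Q'} (hxy : Rel q q' hb hc x y) {R' : Scheme.{u}} (r : R' ⟶ R)
    {a' : R' ⟶ S} {b' : R' ⟶ V} {c' : R' ⟶ W} (ha' : r ≫ a = a') (hb' : r ≫ b = b') (hc' : r ≫ c = c')
    (h : b' ≫ v = a') (h' : c' ≫ w = a') : Rel q q' h h' (res r hb' x) (res r hc' y) := by
  intro R'' s a'' b'' c'' ha'' hb'' hc'' h1 h1' g hg
  rw [res_res] at hg ⊢
  exact hxy R'' (s ≫ r) a'' b'' c'' (by rw [Category.assoc, ha', ha'']) (by rw [Category.assoc, hb', hb''])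
    (by rw [Category.assoc, hc', hc'']) h1 h1' g hg

include hb in
/-- local lifts of points of a local quotient -/
theorem IsLoc.exists_lift {z : Z ⟶ G} (hq : IsLoc z v q) (x : Over.mk b ⟶ Q) :
    ∃ (R' : Scheme.{u}) (r : R' ⟶ R), Surjective r ∧ Flat r ∧ LocallyOfFinitePresentation r ∧
      ∃ (h : (r ≫ b) ≫ v = r ≫ a) (g : Over.mk (r ≫ a) ⟶ G), up h g ≫ q = res r rfl x := by
  obtain ⟨T', s, g, hs, hg⟩ := exists_lift_local hq.cov x
  have h : (s.left ≫ b) ≫ v = s.left ≫ a := by rw [Category.assoc, hb]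
  let k : Over.mk (s.left ≫ b) ⟶ T' := Over.homMk (𝟙 _) ((Category.id_comp _).trans (Over.w s).symm)
  refine ⟨T'.left, s.left, hs.surj, hs.flat, hs.lfp, h, dn h (k ≫ g), ?_⟩
  rw [up_dn, Category.assoc, hg]
  ext
  change 𝟙 _ ≫ s.left ≫ x.left = _
  rw [Category.id_comp, res_left]

theorem isCov_homMk {R' R : Scheme.{u}} (r : R' ⟶ R) (h1 : Surjective r) (h2 : Flat r)
    (h3 : LocallyOfFinitePresentation r) {U : Scheme.{u}} {b : R ⟶ U} {b' : R' ⟶ U} (h : r ≫ b = b') :
    IsCov (Over.homMk r h : Over.mk b' ⟶ Over.mk b) := ⟨h1, h2, h3⟩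

/-- uniqueness -/
theorem Rel.unique {z : Z ⟶ G} (hq : IsLoc z v q) {x : Over.mk b ⟶ Q} {y y' : Over.mk c ⟶ Q'}
    (hy : Rel q q' hb hc x y) (hy' : Rel q q' hb hc x y') : y = y' := by
  obtain ⟨R', r, h1, h2, h3, h, g, hg⟩ := hq.exists_lift hb x
  have h' : (r ≫ c) ≫ w = r ≫ a := by rw [Category.assoc, hc]
  have e1 := hy R' r (r ≫ a) (r ≫ b) (r ≫ c) rfl rfl rfl h h' g hg
  have e2 := hy' R' r (r ≫ a) (r ≫ b) (r ≫ c) rfl rfl rfl h h' g hg
  exact Fppf.hom_ext (isCov_homMk r h1 h2 h3 (b := c) rfl) (e1.symm.trans e2)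

/-- existence -/
theorem exists_rel {z : Z ⟶ G} (hq : IsLoc z v q) (hq' : IsLoc z w q') (x : Over.mk b ⟶ Q) :
    ∃ y : Over.mk c ⟶ Q', Rel q q' hb hc x y := by
  obtain ⟨R', r, h1, h2, h3, h, g, hg⟩ := hq.exists_lift hb x
  have h' : (r ≫ c) ≫ w = r ≫ a := by rw [Category.assoc, hc]
  -- comparison of two lifts
  have key : ∀ (P : Scheme.{u}) (a₀ : P ⟶ S) (b₀ : P ⟶ V) (c₀ : P ⟶ W) (hb₀ : b₀ ≫ v = a₀) (hc₀ : c₀ ≫ w = a₀)
      (g₁ g₂ : Over.mk a₀ ⟶ G), up hb₀ g₁ ≫ q = up hb₀ g₂ ≫ q → up hc₀ g₁ ≫ q' = up hc₀ g₂ ≫ q' := by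
    intro P a₀ b₀ c₀ hb₀ hc₀ g₁ g₂ h12
    exact (hq'.agree hc₀ g₁ g₂).2 ((hq.agree hb₀ g₁ g₂).1 h12)
  obtain ⟨y, hy⟩ := Fppf.exists_desc (isCov_homMk r h1 h2 h3 (b := c) (b' := r ≫ c) rfl) (up h' g ≫ q') (by
    intro X s t hst
    have hst' : s.left ≫ r = t.left ≫ r := congrArg (fun z => z.left) hst
    have hs : s.left ≫ r ≫ c = X.hom := Over.w s
    have ht : t.left ≫ r ≫ c = X.hom := Over.w t
    let a₀ : X.left ⟶ S := s.left ≫ r ≫ a
    let b₀ : X.left ⟶ V := s.left ≫ r ≫ b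
    have hb₀ : b₀ ≫ v = a₀ := by simp only [a₀, b₀, Category.assoc, hb]
    have hc₀ : X.hom ≫ w = a₀ := by rw [← hs]; simp only [a₀, Category.assoc, hc]
    have ta : t.left ≫ r ≫ a = a₀ := by rw [← Category.assoc, ← hst', Category.assoc]
    have tb : t.left ≫ r ≫ b = b₀ := by rw [← Category.assoc, ← hst', Category.assoc]
    have e0 := key X.left a₀ b₀ X.hom hb₀ hc₀ (res s.left rfl g) (res t.left ta g) (by
      rw [up_res s.left rfl rfl h hb₀, up_res t.left ta tb h hb₀, ← res_comp, ← res_comp, hg, res_res, res_res]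
      ext
      simp only [res_left]
      rw [hst'])
    rw [up_res s.left rfl hs h' hc₀, up_res t.left ta ht h' hc₀, ← res_comp, ← res_comp] at e0
    ext
    exact congrArg (fun z => z.left) e0)
  refine ⟨y, ?_⟩
  intro R'' s a'' b'' c'' ha'' hb'' hc'' h3 h3' g'' hg''
  -- common refinement
  let P : Scheme.{u} := pullback s r
  have hP1 : Surjective (pullback.fst s r) := inferInstance
  have hP2 : Flat (pullback.fst s r) := inferInstance
  have hP3 : LocallyOfFinitePresentation (pullback.fst s r) := inferInstance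
  refine Fppf.hom_ext (isCov_homMk (pullback.fst s r) hP1 hP2 hP3 (b := c'') rfl) ?_
  have hcon : pullback.fst s r ≫ s = pullback.snd s r ≫ r := pullback.condition
  have q1 : (pullback.fst s r ≫ b'') ≫ v = pullback.fst s r ≫ a'' := by rw [Category.assoc, h3]
  have q2 : (pullback.fst s r ≫ c'') ≫ w = pullback.fst s r ≫ a'' := by rw [Category.assoc, h3']
  have q3 : pullback.snd s r ≫ r ≫ a = pullback.fst s r ≫ a'' := by
    rw [← Category.assoc, ← hcon, Category.assoc, ha'']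
  have q4 : pullback.snd s r ≫ r ≫ b = pullback.fst s r ≫ b'' := by
    rw [← Category.assoc, ← hcon, Category.assoc, hb'']
  have q5 : pullback.snd s r ≫ r ≫ c = pullback.fst s r ≫ c'' := by
    rw [← Category.assoc, ← hcon, Category.assoc, hc'']
  have e0 := key P _ _ _ q1 q2 (res (pullback.fst s r) rfl g'') (res (pullback.snd s r) q3 g) (by
    rw [up_res (pullback.fst s r) rfl rfl h3 q1, up_res (pullback.snd s r) q3 q4 h q1, ← res_comp, ← res_comp, hg, hg'',
      res_res, res_res]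
    ext
    simp only [res_left]
    rw [hcon])
  rw [up_res (pullback.fst s r) rfl rfl h3' q2, up_res (pullback.snd s r) q3 q5 h' q2, ← res_comp, ← res_comp] at e0
  refine e0.trans ?_
  have hy' : res r rfl y = up h' g ≫ q' := hy
  change res (pullback.snd s r) q5 (up h' g ≫ q') = res (pullback.fst s r) rfl (res s hc'' y)
  rw [← hy', res_res, res_res]
  ext
  simp only [res_left]
  rw [hcon]

end rel

section main

/-- The gluing datum of local quotients. -/
noncomputable def dat {J : Type u} (V : J → Scheme.{u}) (v : ∀ j, V j ⟶ S) (Q : ∀ j, Over (V j))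
    (q : ∀ j, Red.bc (v j) G ⟶ Q j) (hq : ∀ j, IsLoc z (v j) (q j)) : Dat S where
  J := J
  V := V
  v := v
  E := Q
  φ {i j} R b c h x := (exists_rel (c := c) (rfl : b ≫ v i = b ≫ v i) h.symm (hq i) (hq j) x).choose
  φ_nat {i j} R R' r b c h h' x := by
    let H := (exists_rel (c := c) (rfl : b ≫ v i = b ≫ v i) h.symm (hq i) (hq j) x).choose_spec
    let H' := (exists_rel (c := r ≫ c) (rfl : (r ≫ b) ≫ v i = (r ≫ b) ≫ v i) h'.symm (hq i) (hq j) (res r rfl x)).choose_spec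
    exact Rel.unique _ _ (hq i) H' (H.restr _ _ r (Category.assoc _ _ _).symm rfl rfl _ _)
  φ_self {i} R b x := by
    let H := (exists_rel (c := b) (rfl : b ≫ v i = b ≫ v i) rfl (hq i) (hq i) x).choose_spec
    refine Rel.unique _ _ (hq i) H ?_
    intro R' r a' b' c' ha' hb' hc' h h' g hg
    subst hb' hc'
    exact hg
  φ_comp {i j k} R b c d h h' x := by
    let H := (exists_rel (c := c) (rfl : b ≫ v i = b ≫ v i) h.symm (hq i) (hq j) x).choose_spec
    let H' := (exists_rel (c := d) (rfl : c ≫ v j = c ≫ v j) h'.symm (hq j) (hq k)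
      (exists_rel (c := c) (rfl : b ≫ v i = b ≫ v i) h.symm (hq i) (hq j) x).choose).choose_spec
    let H'' := (exists_rel (c := d) (rfl : b ≫ v i = b ≫ v i) (h.trans h').symm (hq i) (hq k) x).choose_spec
    refine (Rel.unique _ _ (hq i) H'' ?_).symm
    intro R' r a' b' d' ha' hb' hd' e e' g hg
    refine H' R' r a' (r ≫ c) d' ?_ rfl hd' ?_ e' g (H R' r a' b' (r ≫ c) ha' hb' rfl e ?_ g hg)
    · rw [← h, ha']
    · rw [Category.assoc, ← h, ha']
    · rw [Category.assoc, ← h, ha']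

theorem dat_rel {J : Type u} (V : J → Scheme.{u}) (v : ∀ j, V j ⟶ S) (Q : ∀ j, Over (V j))
    (q : ∀ j, Red.bc (v j) G ⟶ Q j) (hq : ∀ j, IsLoc z (v j) (q j)) {i j : J} {R : Scheme.{u}} (b : R ⟶ V i)
    (c : R ⟶ V j) (h : b ≫ v i = c ≫ v j) (x : Over.mk b ⟶ Q i) :
    Rel (q i) (q j) rfl h.symm x ((dat z V v Q q hq).φ b c h x) :=
  (exists_rel (c := c) (rfl : b ≫ v i = b ≫ v i) h.symm (hq i) (hq j) x).choose_spec

/-- fppf coverings are étale local on the base -/
theorem isCov_of_loc {J : Type u} (V : J → Scheme.{u}) (v : ∀ j, V j ⟶ S) (he : ∀ j, Etale (v j))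
    (hcov : ∀ s : S, ∃ j, s ∈ Set.range (v j)) {X Y : Over S} (p : X ⟶ Y)
    (hp : ∀ j, IsCov ((Over.pullback (v j)).map p)) : IsCov p := by
  have key : (@Surjective ⊓ @Flat ⊓ @LocallyOfFinitePresentation : MorphismProperty Scheme.{u}) p.left := by
    refine Groth.Agent.Sga3B.RepDescent.of_etale_cover p.left fun y => ?_
    obtain ⟨j, x, hx⟩ := hcov (Y.hom y)
    obtain ⟨z, hz, -⟩ := Scheme.Pullback.exists_preimage_pullback y x hx.symm
    refine ⟨_, pullback.fst Y.hom (v j), inferInstance, ⟨z, hz⟩, ?_⟩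
    have h1 := (Groth.Agent.RedSub.H654.QuotDesc.isPullback_map (v j) p).flip
    have h2 : h1.isoPullback.hom ≫ pullback.snd p.left (pullback.fst Y.hom (v j)) =
        ((Over.pullback (v j)).map p).left := h1.isoPullback_hom_snd
    have h3 := hp j
    rw [← MorphismProperty.cancel_left_of_respectsIso
      (@Surjective ⊓ @Flat ⊓ @LocallyOfFinitePresentation : MorphismProperty Scheme.{u}) h1.isoPullback.hom, h2]
    exact ⟨⟨h3.surj, h3.flat⟩, h3.lfp⟩
  exact ⟨key.1.1, key.1.2, key.2⟩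

theorem compat_dat {J : Type u} (V : J → Scheme.{u}) (v : ∀ j, V j ⟶ S) (Q : ∀ j, Over (V j))
    (q : ∀ j, Red.bc (v j) G ⟶ Q j) (hq : ∀ j, IsLoc z (v j) (q j)) : Dat.CompatHom (D := dat z V v Q q hq) q := by
  intro (i : J) (j : J) R (b : R ⟶ V i) (c : R ⟶ V j) (h : b ≫ v i = c ≫ v j) (x : Over.mk b ⟶ Red.bc (v i) G)
    (y : Over.mk c ⟶ Red.bc (v j) G) (hxy : x.left ≫ pullback.fst G.hom (v i) = y.left ≫ pullback.fst G.hom (v j))
  have H : Rel (q i) (q j) (rfl : b ≫ v i = b ≫ v i) h.symm (x ≫ q i) (y ≫ q j) := by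
    intro R' r a' b' c' ha hb hc h1 h1' g hg
    have e1 : x = up rfl (dn rfl x) := (up_dn _ _).symm
    have e2 : dn h.symm y = dn rfl x := by
      ext
      exact hxy.symm
    have e3 : y = up h.symm (dn rfl x) := by rw [← e2, up_dn]
    rw [e1, res_comp, ← up_res r ha hb rfl h1] at hg
    rw [e3, res_comp, ← up_res r ha hc h.symm h1']
    exact ((hq j).agree h1' _ _).2 (((hq i).agree h1 _ _).1 hg)
  exact Rel.unique _ _ (hq i) (dat_rel z V v Q q hq b c h (x ≫ q i)) H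

/-- morphisms are determined by their base changes along an étale cover -/
theorem hom_ext_bc {J : Type u} (V : J → Scheme.{u}) (v : ∀ j, V j ⟶ S) (he : ∀ j, Etale (v j))
    (hcov : ∀ s : S, ∃ j, s ∈ Set.range (v j)) {X Y : Over S} {f g : X ⟶ Y}
    (h : ∀ j, (Over.pullback (v j)).map f = (Over.pullback (v j)).map g) : f = g := by
  ext
  obtain ⟨y, -, hy⟩ := Groth.Agent.Sga3B.RepDescent.exists_glue (fun j => pullback X.hom (v j))
    (fun j => pullback.fst X.hom (v j)) (fun j => by have := he j; infer_instance) (fun x => by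
      obtain ⟨j, t, ht⟩ := hcov (X.hom x)
      obtain ⟨z, hz, -⟩ := Scheme.Pullback.exists_preimage_pullback x t ht.symm
      exact ⟨j, z, hz⟩) (fun j => pullback.fst X.hom (v j) ≫ f.left) (by
      intro i j T a b hab
      rw [← Category.assoc, hab, Category.assoc])
  rw [hy f.left fun j => rfl, hy g.left fun j => ?_]
  rw [← map_left_fst, ← map_left_fst, h]

/-- factorization through a monomorphism is étale local on the base -/
theorem exists_lift_mono {J : Type u} (V : J → Scheme.{u}) (v : ∀ j, V j ⟶ S) (he : ∀ j, Etale (v j))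
    (hcov : ∀ s : S, ∃ j, s ∈ Set.range (v j)) {X Y Z : Over S} (f : X ⟶ Y) (z : Z ⟶ Y) [Mono z]
    (h : ∀ (j : J), ∃ t : Over.mk (pullback.fst X.hom (v j) ≫ X.hom) ⟶ Z,
      t ≫ z = (Over.homMk (pullback.fst X.hom (v j)) rfl : Over.mk (pullback.fst X.hom (v j) ≫ X.hom) ⟶ X) ≫ f) :
    ∃ t : X ⟶ Z, t ≫ z = f := by
  choose t ht using h
  obtain ⟨y, hy, -⟩ := Groth.Agent.Sga3B.RepDescent.isEtSheaf_yoneda Z
    (fun j => Over.mk (pullback.fst X.hom (v j) ≫ X.hom))
    (fun j => (Over.homMk (pullback.fst X.hom (v j)) rfl : Over.mk (pullback.fst X.hom (v j) ≫ X.hom) ⟶ X))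
    (fun j => by have := he j; change Etale (pullback.fst X.hom (v j)); infer_instance) (fun x => by
      obtain ⟨j, t, ht⟩ := hcov (X.hom x)
      obtain ⟨z, hz, -⟩ := Scheme.Pullback.exists_preimage_pullback x t ht.symm
      exact ⟨j, z, hz⟩) t (by
      intro i j R a b hab
      change a ≫ t i = b ≫ t j
      rw [← cancel_mono z, Category.assoc, Category.assoc, ht, ht, ← Category.assoc, hab, Category.assoc])
  refine ⟨y, ?_⟩
  obtain ⟨w, -, hw⟩ := Groth.Agent.Sga3B.RepDescent.isEtSheaf_yoneda Y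
    (fun j => Over.mk (pullback.fst X.hom (v j) ≫ X.hom))
    (fun j => (Over.homMk (pullback.fst X.hom (v j)) rfl : Over.mk (pullback.fst X.hom (v j) ≫ X.hom) ⟶ X))
    (fun j => by have := he j; change Etale (pullback.fst X.hom (v j)); infer_instance) (fun x => by
      obtain ⟨j, t, ht⟩ := hcov (X.hom x)
      obtain ⟨z, hz, -⟩ := Scheme.Pullback.exists_preimage_pullback x t ht.symm
      exact ⟨j, z, hz⟩) (fun j => t j ≫ z) (by
      intro i j R a b hab
      change a ≫ t i ≫ z = b ≫ t j ≫ z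
      rw [ht, ht, ← Category.assoc, hab, Category.assoc])
  rw [hw (y ≫ z) fun j => ?_, hw f fun j => ?_]
  · exact (ht j).symm
  · have h1 := hy j
    change _ ≫ y = t j at h1
    change _ ≫ y ≫ z = t j ≫ z
    rw [← h1, Category.assoc]

/-- **Étale gluing of quotients.** -/
theorem exists_quotient [GrpObj Z] [Mono z] {J : Type u} (V : J → Scheme.{u}) (v : ∀ j, V j ⟶ S) (Q : ∀ j, Over (V j))
    (q : ∀ j, Red.bc (v j) G ⟶ Q j) (hq : ∀ j, IsLoc z (v j) (q j)) (he : ∀ j, Etale (v j))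
    (hcov : ∀ s : S, ∃ j, s ∈ Set.range (v j)) (hV : ∀ j, IsAffine (V j)) (hQ : ∀ j, IsAffineHom (Q j).hom) :
    ∃ (A : Over S) (p : G ⟶ A), IsAffineHom A.hom ∧ RedSub.IsQuotient z p ∧
      ∃ e : ∀ j, Red.bc (v j) A ≅ Q j, ∀ j, (Over.pullback (v j)).map p ≫ (e j).hom = q j := by
  obtain ⟨A, (e : ∀ j : J, Red.bc (v j) A ≅ Q j), hA, hφ, hu⟩ := (dat z V v Q q hq).exists_glue_sch he hcov hV hQ
  obtain ⟨p, hp, -⟩ := hu G q (compat_dat z V v Q q hq)
  have hp' : ∀ j, (Over.pullback (v j)).map p ≫ (e j).hom = q j := hp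
  have hcv : ∀ j, IsCov ((Over.pullback (v j)).map p) := by
    intro j
    have h1 : (Over.pullback (v j)).map p = q j ≫ (e j).inv := by rw [← hp', Category.assoc, Iso.hom_inv_id, Category.comp_id]
    rw [h1]
    refine (hq j).cov.comp ⟨?_, ?_, ?_⟩
    all_goals
      have : IsIso (e j).inv.left := inferInstance
      infer_instance
  -- two points of `G` agree in `A` iff they agree locally
  have key : ∀ (j : J) {R : Scheme.{u}} {a : R ⟶ S} {b : R ⟶ V j} (h : b ≫ v j = a) (g g' : Over.mk a ⟶ G),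
      g ≫ p = g' ≫ p ↔ ∃ t : Over.mk a ⟶ Z, g' = g * (t ≫ z) := by
    intro j R a b h g g'
    have e1 : ∀ g : Over.mk a ⟶ G, up h g ≫ q j = up h (g ≫ p) ≫ (e j).hom := by
      intro g
      rw [← hp', ← up_comp, Category.assoc]
    rw [← (hq j).agree h, e1, e1]
    constructor
    · intro h1
      rw [h1]
    · intro h1
      exact up_injective h ((cancel_mono (e j).hom).1 h1)
  refine ⟨A, p, hA, QuotPts.isQuotient_of_pts (isCov_of_loc V v he hcov p hcv) ?_ ?_, e, hp'⟩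
  · intro T g h
    obtain ⟨y, -, hy⟩ := Groth.Agent.Sga3B.RepDescent.isEtSheaf_yoneda A
      (fun j => Over.mk (pullback.fst T.hom (v j) ≫ T.hom))
      (fun j => (Over.homMk (pullback.fst T.hom (v j)) rfl : Over.mk (pullback.fst T.hom (v j) ≫ T.hom) ⟶ T))
      (fun j => by have := he j; change Etale (pullback.fst T.hom (v j)); infer_instance) (fun x => by
        obtain ⟨j, t, ht⟩ := hcov (T.hom x)
        obtain ⟨z, hz, -⟩ := Scheme.Pullback.exists_preimage_pullback x t ht.symm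
        exact ⟨j, z, hz⟩) (fun j => Over.homMk (pullback.fst T.hom (v j)) rfl ≫ g ≫ p) (by
        intro i j R a b hab
        change a ≫ _ ≫ g ≫ p = b ≫ _ ≫ g ≫ p
        rw [← Category.assoc, hab, Category.assoc])
    refine (hy _ fun j => ?_).trans (hy (g ≫ p) fun j => rfl).symm
    change (Over.homMk (pullback.fst T.hom (v j)) rfl : Over.mk (pullback.fst T.hom (v j) ≫ T.hom) ⟶ T) ≫
      (g * h ≫ z) ≫ p = Over.homMk (pullback.fst T.hom (v j)) rfl ≫ g ≫ p
    rw [← Category.assoc, ← Category.assoc, comp_mul]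
    refine ((key j (b := pullback.snd T.hom (v j)) pullback.condition.symm _ _).2
      ⟨Over.homMk (pullback.fst T.hom (v j)) rfl ≫ h, ?_⟩).symm
    rw [Category.assoc]
  · intro T g g' hgg
    obtain ⟨t, ht⟩ := exists_lift_mono V v he hcov (g⁻¹ * g') z fun j => by
      obtain ⟨t, ht⟩ := (key j (b := pullback.snd T.hom (v j)) pullback.condition.symm
        ((Over.homMk (pullback.fst T.hom (v j)) rfl : Over.mk (pullback.fst T.hom (v j) ≫ T.hom) ⟶ T) ≫ g)
        ((Over.homMk (pullback.fst T.hom (v j)) rfl : Over.mk (pullback.fst T.hom (v j) ≫ T.hom) ⟶ T) ≫ g')).1 (by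
          rw [Category.assoc, Category.assoc, hgg])
      refine ⟨t, ?_⟩
      rw [comp_mul, ht, comp_inv, inv_mul_cancel_left]
    exact ⟨t, by rw [ht, mul_inv_cancel_left]⟩

end main

end K208.QuotGlue
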